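import Mathlib

/-! Counting commuting pairs and elementary bounds for the class number. -/

set_option autoImplicit false

namespace Cfsg.Agent.H93

open Finset

/-- The number of commuting pairs in `S × T`. -/
noncomputable def commPairs {G : Type*} [Group G] (S T : Set G) : ℕ :=
  Nat.card {p : G × G // p.1 ∈ S ∧ p.2 ∈ T ∧ p.1 * p.2 = p.2 * p.1}

theorem commPairs_comm {G : Type*} [Group G] (S T : Set G) : commPairs S T = commPairs T S := by
  unfold commPairs
  refine Nat.card_congr ?_
  exact
    { toFun := fun p => ⟨(p.1.2, p.1.1), p.2.2.1, p.2.1, p.2.2.2.symm⟩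
      invFun := fun p => ⟨(p.1.2, p.1.1), p.2.2.1, p.2.1, p.2.2.2.symm⟩
      left_inv := fun _ => rfl
      right_inv := fun _ => rfl }

theorem commPairs_eq_sum {G : Type*} [Group G] [Finite G] (S T : Set G) [Fintype S] :
    commPairs S T = ∑ x : S, Nat.card {y : G // y ∈ T ∧ (x : G) * y = y * x} := by
  unfold commPairs
  rw [← Nat.card_sigma]
  refine Nat.card_congr ?_
  exact
    { toFun := fun p => ⟨⟨p.1.1, p.2.1⟩, ⟨p.1.2, p.2.2.1, p.2.2.2⟩⟩
      invFun := fun p => ⟨(p.1.1, p.2.1), p.1.2, p.2.2.1, p.2.2.2⟩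
      left_inv := fun _ => rfl
      right_inv := fun _ => rfl }

theorem commPairs_subgroup {G : Type*} [Group G] (H : Subgroup G) :
    commPairs (H : Set G) H = Nat.card (ConjClasses H) * Nat.card H := by
  rw [← card_comm_eq_card_conjClasses_mul_card]
  unfold commPairs
  refine Nat.card_congr ?_
  exact
    { toFun := fun p => ⟨(⟨p.1.1, p.2.1⟩, ⟨p.1.2, p.2.2.1⟩), Subtype.ext p.2.2.2⟩
      invFun := fun p => ⟨(p.1.1.1, p.1.2.1), p.1.1.2, p.1.2.2, congrArg Subtype.val p.2⟩
      left_inv := fun _ => rfl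
      right_inv := fun _ => rfl }

theorem commPairs_univ (G : Type*) [Group G] :
    commPairs (Set.univ : Set G) Set.univ = Nat.card (ConjClasses G) * Nat.card G := by
  rw [← card_comm_eq_card_conjClasses_mul_card]
  unfold commPairs
  refine Nat.card_congr ?_
  exact
    { toFun := fun p => ⟨p.1, p.2.2.2⟩
      invFun := fun p => ⟨p.1, trivial, trivial, p.2⟩
      left_inv := fun _ => rfl
      right_inv := fun _ => rfl }

theorem commPairs_mono {G : Type*} [Group G] [Finite G] {S T S' T' : Set G} (h1 : S ⊆ S')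
    (h2 : T ⊆ T') : commPairs S T ≤ commPairs S' T' := by
  unfold commPairs
  refine Nat.card_le_card_of_injective (fun p => ⟨p.1, h1 p.2.1, h2 p.2.2.1, p.2.2.2⟩) ?_
  intro p q h
  simp only [Subtype.mk.injEq] at h
  exact Subtype.ext h

theorem card_comm_subtype {G : Type*} [Group G] (H : Subgroup G) (x : G) :
    Nat.card {y : G // y ∈ (H : Set G) ∧ x * y = y * x} =
      Nat.card (H ⊓ Subgroup.centralizer ({x} : Set G) : Subgroup G) := by
  refine Nat.card_congr (Equiv.subtypeEquivRight ?_)
  intro y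
  simp [Subgroup.mem_centralizer_singleton_iff, eq_comm]

theorem card_comm_univ {G : Type*} [Group G] (x : G) :
    Nat.card {y : G // y ∈ (Set.univ : Set G) ∧ x * y = y * x} =
      Nat.card (Subgroup.centralizer ({x} : Set G)) := by
  refine Nat.card_congr (Equiv.subtypeEquivRight ?_)
  intro y
  simp [Subgroup.mem_centralizer_singleton_iff, eq_comm]

theorem card_eq_relIndex_mul_card_inf {G : Type*} [Group G] (H C : Subgroup G) :
    Nat.card C = H.relIndex C * Nat.card (H ⊓ C : Subgroup G) := by
  rw [← Subgroup.inf_relIndex_right, Subgroup.relIndex, ← Subgroup.index_mul_card ((H ⊓ C).subgroupOf C),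
    Nat.card_congr (Subgroup.subgroupOfEquivOfLe (inf_le_right : H ⊓ C ≤ C)).toEquiv]

theorem relIndex_le_index {G : Type*} [Group G] [Finite G] (H C : Subgroup G) :
    H.relIndex C ≤ H.index := by
  rw [← Subgroup.relIndex_top_right]
  refine Subgroup.relIndex_le_of_le_right le_top ?_
  rw [Subgroup.relIndex_top_right]
  exact Subgroup.index_ne_zero_of_finite

theorem card_le_index_mul_card_inf {G : Type*} [Group G] [Finite G] (H C : Subgroup G) :
    Nat.card C ≤ H.index * Nat.card (H ⊓ C : Subgroup G) := by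
  rw [card_eq_relIndex_mul_card_inf H C]
  exact Nat.mul_le_mul_right _ (relIndex_le_index H C)

/-- If `[C : H ∩ C] = [G : H]` then `G = C H`. -/
theorem exists_mul_of_relIndex_eq_index {G : Type*} [Group G] [Finite G] (H C : Subgroup G)
    (h : H.relIndex C = H.index) (g : G) : ∃ c ∈ C, ∃ y ∈ H, g = c * y := by
  let f : C ⧸ H.subgroupOf C → G ⧸ H := Quotient.map' (fun c => (c : G)) (by
    intro a b hab
    rw [QuotientGroup.leftRel_apply] at hab ⊢
    exact hab)
  have hf : Function.Injective f := by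
    intro a b
    refine Quotient.inductionOn₂' a b ?_
    intro a b hab
    have : ((a : G) : G ⧸ H) = ((b : G) : G ⧸ H) := hab
    rw [QuotientGroup.eq] at this
    exact QuotientGroup.eq.mpr this
  have hs : Function.Surjective f := by
    have hb : Function.Bijective f := by
      rw [Nat.bijective_iff_injective_and_card]
      exact ⟨hf, h⟩
    exact hb.2
  obtain ⟨q, hq⟩ := hs (g : G ⧸ H)
  induction q using QuotientGroup.induction_on with
  | H c =>
    have : ((c : G) : G ⧸ H) = (g : G ⧸ H) := hq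
    rw [QuotientGroup.eq] at this
    exact ⟨c, c.2, _, this, by group⟩

/-- If two subgroups have coprime indices, their product is the whole group. -/
theorem exists_mul_of_coprime_index {G : Type*} [Group G] [Finite G] (H C : Subgroup G)
    (h : H.index.Coprime C.index) (g : G) : ∃ c ∈ C, ∃ y ∈ H, g = c * y := by
  apply exists_mul_of_relIndex_eq_index
  apply le_antisymm (relIndex_le_index H C)
  have h1 : H.index ∣ H.relIndex C * C.index := by
    rw [← Subgroup.inf_relIndex_right, Subgroup.relIndex_mul_index inf_le_right]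
    exact Subgroup.index_dvd_of_le inf_le_left
  refine Nat.le_of_dvd (Nat.pos_of_ne_zero ?_) (h.dvd_of_dvd_mul_right h1)
  exact Subgroup.index_ne_zero_of_finite

theorem commPairs_univ_right_le {G : Type*} [Group G] [Finite G] (S : Set G) (H : Subgroup G) :
    commPairs S Set.univ ≤ H.index * commPairs S H := by
  classical
  have := Fintype.ofFinite S
  rw [commPairs_eq_sum, commPairs_eq_sum, Finset.mul_sum]
  refine Finset.sum_le_sum fun x _ => ?_
  rw [card_comm_univ, card_comm_subtype]
  exact card_le_index_mul_card_inf _ _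

theorem commPairs_univ_right_lt {G : Type*} [Group G] [Finite G] (H : Subgroup G)
    (hH : ¬ H.Normal) : commPairs (H : Set G) Set.univ < H.index * commPairs (H : Set G) H := by
  classical
  have := Fintype.ofFinite (H : Set G)
  rw [commPairs_eq_sum, commPairs_eq_sum, Finset.mul_sum]
  refine Finset.sum_lt_sum (fun x _ => ?_) ?_
  · rw [card_comm_univ, card_comm_subtype]
    exact card_le_index_mul_card_inf _ _
  · by_contra hcon
    push Not at hcon
    apply hH
    constructor
    intro x hx g
    have h1 := hcon ⟨x, hx⟩ (Finset.mem_univ _)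
    rw [card_comm_univ, card_comm_subtype,
      card_eq_relIndex_mul_card_inf H (Subgroup.centralizer {x})] at h1
    have h2 := Nat.le_of_mul_le_mul_right h1 Nat.card_pos
    have h3 := le_antisymm (relIndex_le_index H _) h2
    obtain ⟨c, hc, y, hy, hg⟩ := exists_mul_of_relIndex_eq_index H _ h3 g⁻¹
    rw [Subgroup.mem_centralizer_singleton_iff] at hc
    have hg' : g = y⁻¹ * c⁻¹ := by rw [← mul_inv_rev, ← hg, inv_inv]
    have : g * x * g⁻¹ = y⁻¹ * x * y := by
      rw [hg']
      calc y⁻¹ * c⁻¹ * x * (y⁻¹ * c⁻¹)⁻¹ = y⁻¹ * c⁻¹ * (x * c) * y := by group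
        _ = y⁻¹ * c⁻¹ * (c * x) * y := by rw [hc]
        _ = y⁻¹ * x * y := by group
    rw [this]
    exact mul_mem (mul_mem (inv_mem hy) hx) hy

/-- `k(Y) ≤ [X : Y] k(X)`. -/
theorem card_conjClasses_subgroup_le {X : Type*} [Group X] [Finite X] (Y : Subgroup X) :
    Nat.card (ConjClasses Y) ≤ Y.index * Nat.card (ConjClasses X) := by
  have h := commPairs_mono (G := X) (Set.subset_univ (Y : Set X)) (Set.subset_univ (Y : Set X))
  rw [commPairs_subgroup, commPairs_univ, ← Y.index_mul_card, ← mul_assoc] at h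
  rw [mul_comm]
  exact Nat.le_of_mul_le_mul_right h Nat.card_pos

/-- `k(X) ≤ [X : Y] k(Y)`. -/
theorem card_conjClasses_le_index_mul {X : Type*} [Group X] [Finite X] (Y : Subgroup X) :
    Nat.card (ConjClasses X) ≤ Y.index * Nat.card (ConjClasses Y) := by
  have h1 := commPairs_univ_right_le (Set.univ : Set X) Y
  rw [commPairs_comm _ (Y : Set X)] at h1
  have h2 := h1.trans (Nat.mul_le_mul_left _ (commPairs_univ_right_le (Y : Set X) Y))
  rw [commPairs_subgroup, commPairs_univ] at h2
  refine Nat.le_of_mul_le_mul_right (h2.trans_eq ?_) (Nat.card_pos (α := X))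
  rw [← Y.index_mul_card]; ring

theorem card_conjClasses_lt_index_mul {X : Type*} [Group X] [Finite X] (Y : Subgroup X)
    (hY : ¬ Y.Normal) : Nat.card (ConjClasses X) < Y.index * Nat.card (ConjClasses Y) := by
  have h1 := commPairs_univ_right_le (Set.univ : Set X) Y
  rw [commPairs_comm _ (Y : Set X)] at h1
  have h2 := h1.trans_lt (Nat.mul_lt_mul_of_pos_left (commPairs_univ_right_lt Y hY)
    (Nat.pos_of_ne_zero Subgroup.index_ne_zero_of_finite))
  rw [commPairs_subgroup, commPairs_univ] at h2
  refine Nat.lt_of_mul_lt_mul_right (a := Nat.card X) (h2.trans_eq ?_)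
  rw [← Y.index_mul_card]; ring

theorem commPairs_coset_le {X : Type*} [Group X] [Finite X] (N : Subgroup X) [N.Normal]
    (S : Set X) (t : X ⧸ N) :
    commPairs S {y | (y : X ⧸ N) = t} ≤ commPairs S N := by
  classical
  have := Fintype.ofFinite S
  rw [commPairs_eq_sum, commPairs_eq_sum]
  refine Finset.sum_le_sum fun x _ => ?_
  rcases isEmpty_or_nonempty {y : X // y ∈ {y : X | (y : X ⧸ N) = t} ∧ (x : X) * y = y * x} with
    h | ⟨⟨y₀, hy₀, hc₀⟩⟩
  · rw [Nat.card_of_isEmpty]; exact Nat.zero_le _
  · refine Nat.card_le_card_of_injective (fun y => ⟨y₀⁻¹ * y.1, ?_, ?_⟩) ?_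
    · have h1 : (y₀ : X ⧸ N) = (y.1 : X ⧸ N) := hy₀.trans y.2.1.symm
      exact QuotientGroup.eq.mp h1
    · have h2 : Commute (x : X) y₀ := hc₀
      have h3 : Commute (x : X) y.1 := y.2.2
      exact h2.inv_right.mul_right h3
    · intro a b hab
      exact Subtype.ext (mul_left_cancel (congrArg Subtype.val hab))

/-- `k(X) ≤ k(N) k(X/N)`. -/
theorem card_conjClasses_le_normal_mul_quotient {X : Type*} [Group X] [Finite X] (N : Subgroup X)
    [N.Normal] :
    Nat.card (ConjClasses X) ≤ Nat.card (ConjClasses N) * Nat.card (ConjClasses (X ⧸ N)) := by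
  classical
  have hfib : ∀ s t : X ⧸ N, commPairs {y : X | (y : X ⧸ N) = s} {y : X | (y : X ⧸ N) = t} ≤
      Nat.card (ConjClasses N) * Nat.card N := by
    intro s t
    refine (commPairs_coset_le N _ t).trans ?_
    rw [commPairs_comm, ← commPairs_subgroup]
    exact commPairs_coset_le N _ s
  let Q := {p : (X ⧸ N) × (X ⧸ N) // Commute p.1 p.2}
  have := Fintype.ofFinite Q
  have h1 : Nat.card (ConjClasses X) * Nat.card X =
      ∑ q : Q, commPairs {y : X | (y : X ⧸ N) = q.1.1} {y : X | (y : X ⧸ N) = q.1.2} := by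
    rw [← card_comm_eq_card_conjClasses_mul_card]
    unfold commPairs
    rw [← Nat.card_sigma]
    refine Nat.card_congr ?_
    exact
      { toFun := fun p => ⟨⟨((p.1.1 : X ⧸ N), (p.1.2 : X ⧸ N)), p.2.map (QuotientGroup.mk' N)⟩,
          ⟨p.1, rfl, rfl, p.2⟩⟩
        invFun := fun p => ⟨p.2.1, p.2.2.2.2⟩
        left_inv := fun _ => rfl
        right_inv := by
          rintro ⟨⟨⟨s, t⟩, hst⟩, ⟨⟨x, y⟩, hx, hy, hxy⟩⟩
          have hx' : (x : X ⧸ N) = s := hx
          have hy' : (y : X ⧸ N) = t := hy
          subst hx' hy'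
          rfl }
  have h2 : Nat.card (ConjClasses X) * Nat.card X ≤
      Nat.card Q * (Nat.card (ConjClasses N) * Nat.card N) := by
    rw [h1, Nat.card_eq_fintype_card, ← smul_eq_mul, ← Finset.card_univ]
    exact Finset.sum_le_card_nsmul _ _ _ fun q _ => hfib _ _
  rw [card_comm_eq_card_conjClasses_mul_card] at h2
  refine Nat.le_of_mul_le_mul_right (h2.trans_eq ?_) (Nat.card_pos (α := X))
  rw [← N.index_mul_card, Subgroup.index_eq_card]; ring

end Cfsg.Agent.H93
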