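import Mathlib
import Cfsg.Agent.H93.Hayden
import Cfsg.Agent.H57.STChar
import Cfsg.Agent.H8.SylowIn

/-! Hayden's lemma for a Sylow subgroup `3³` with normaliser `3³ : 2²`. -/

set_option autoImplicit false

namespace Cfsg.Agent.H93.Hay

open Subgroup Cfsg Cfsg.Agent.H57 Cfsg.Agent.H63 DihedralGroup

variable {G : Type*} [Group G]

theorem char_core [Fintype G] {Θ : G → ℂ} (hgen : IsGeneralizedCharacter G Θ)
    (n3 : classInner Θ Θ = 3) (n1 : classInner Θ (fun _ => 1) = 1) {a b : G} (v1 : Θ 1 = 0)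
    (va : Θ a = 0) (vb : Θ b = 0) (vab : ∀ x, Θ (x * a * x⁻¹ * b) = 0) :
    ∃ K : Subgroup G, K.Normal ∧ (a ∈ K ∨ b ∈ K) ∧ ∀ g ∈ K, Θ g = 0 := by
  have hone : IsIrrCharacter G (fun _ => (1 : ℂ)) := H11.isIrrCharacter_one
  have n2 : classInner (Θ - fun _ => 1) (Θ - fun _ => 1) = 2 := by
    rw [H11.classInner_sub_left, H11.classInner_sub_right, H11.classInner_sub_right, n3, n1,
      H11.classInner_comm_of_isGen H11.isGen_one hgen, n1, H11.classInner_irr_self hone]
    norm_num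
  obtain ⟨ε, δ, α, β, hε, hδ, hα, hβ, hne, e⟩ :=
    H11.exists_of_classInner_self_eq_two (H11.isGen_sub hgen H11.isGen_one) n2
  have key : ∀ α β : G → ℂ, IsIrrCharacter G α → IsIrrCharacter G β →
      (Θ - fun _ => 1) = α - β →
      ∃ K : Subgroup G, K.Normal ∧ (a ∈ K ∨ b ∈ K) ∧ ∀ g ∈ K, Θ g = 0 := by
    intro α β hα hβ e
    have ev : ∀ g, Θ g = 1 + α g - β g := fun g => by
      have := congrFun e g
      simp only [Pi.sub_apply] at this
      linear_combination this
    have s0 : ∑ x, Θ (x * a * x⁻¹ * b) = 0 := Finset.sum_eq_zero fun x _ => vab x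
    simp only [ev] at s0
    rw [Finset.sum_sub_distrib, Finset.sum_add_distrib, H11.sum_irr_conj_mul hα,
      H11.sum_irr_conj_mul hβ] at s0
    simp only [Finset.sum_const, Finset.card_univ, nsmul_eq_mul, mul_one,
      ← Nat.card_eq_fintype_card] at s0
    have c0 := H14.card_group_ne_zero G
    have a0 := H11.irr_apply_one_ne_zero hα
    have b0 := H11.irr_apply_one_ne_zero hβ
    have e1 : β 1 = 1 + α 1 := by linear_combination (ev 1) - v1
    have ea : β a = 1 + α a := by linear_combination (ev a) - va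
    have eb : β b = 1 + α b := by linear_combination (ev b) - vb
    rw [e1] at b0
    rw [e1, ea, eb] at s0
    field_simp at s0
    have fin : (α a - α 1) * (α b - α 1) = 0 :=
      mul_left_cancel₀ c0 (by linear_combination s0)
    have := H11.charKer_normal (H11.isClassFunction_of_irr hα)
    have := H11.charKer_normal (H11.isClassFunction_of_irr hβ)
    refine ⟨H11.charKer α ⊓ H11.charKer β, inferInstance, ?_, fun g hg => ?_⟩
    · simp only [mem_inf, H11.mem_charKer_irr_iff hα, H11.mem_charKer_irr_iff hβ]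
      rcases mul_eq_zero.1 fin with h | h <;> rw [sub_eq_zero] at h
      · exact .inl ⟨h, by rw [ea, e1, h]⟩
      · exact .inr ⟨h, by rw [eb, e1, h]⟩
    · simp only [mem_inf, H11.mem_charKer_irr_iff hα, H11.mem_charKer_irr_iff hβ] at hg
      rw [ev, hg.1, hg.2, e1, sub_self]
  obtain ⟨m, hm0, hm⟩ := H11.exists_pos_degree hα
  obtain ⟨n, hn0, hn⟩ := H11.exists_pos_degree hβ
  have d1 := congrFun e 1
  simp only [Pi.sub_apply, Pi.add_apply, Pi.smul_apply, smul_eq_mul, v1, hm, hn] at d1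
  rcases hε with rfl | rfl <;> rcases hδ with rfl | rfl
  · exfalso
    have : ((m + n + 1 : ℕ) : ℂ) = 0 := by push_cast; linear_combination -d1
    exact absurd (Nat.cast_eq_zero.1 this) (by omega)
  · exact key α β hα hβ (by rw [e]; simp [sub_eq_add_neg])
  · exact key β α hβ hα (by rw [e]; simp [sub_eq_add_neg, add_comm])
  · exfalso
    have : ((m + n : ℕ) : ℂ) = (1 : ℕ) := by push_cast; linear_combination d1
    have := Nat.cast_injective this
    omega

/-- being a reflection. -/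
def rf : DihedralGroup 3 → Bool
  | r _ => false
  | sr _ => true

theorem rf_mul (x y : DihedralGroup 3) : rf (x * y) = xor (rf x) (rf y) := by revert x y; decide

theorem rf_inv (x : DihedralGroup 3) : rf x⁻¹ = rf x := by revert x; decide

/-- `S₃ × S₃ × S₃`. -/
abbrev BB := DihedralGroup 3 × DihedralGroup 3 × DihedralGroup 3

/-- the parity of an element of `S₃³`. -/
def par (x : BB) : Bool := xor (rf x.1) (xor (rf x.2.1) (rf x.2.2))

theorem par_mul (x y : BB) : par (x * y) = xor (par x) (par y) := by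
  simp only [par, Prod.fst_mul, Prod.snd_mul, rf_mul]
  generalize rf x.1 = a, rf x.2.1 = b, rf x.2.2 = c, rf y.1 = d, rf y.2.1 = e, rf y.2.2 = f
  revert a b c d e f
  decide

theorem par_inv (x : BB) : par x⁻¹ = par x := by
  simp only [par, Prod.fst_inv, Prod.snd_inv, rf_inv]

/-- permuting the three coordinates. -/
def act : DihedralGroup 3 → BB → BB
  | r i, u => if i = 0 then u else if i = 1 then (u.2.2, u.1, u.2.1) else (u.2.1, u.2.2, u.1)
  | sr i, u => if i = 0 then (u.2.1, u.1, u.2.2) else if i = 1 then (u.1, u.2.2, u.2.1)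
      else (u.2.2, u.2.1, u.1)

theorem d3_cases (p : DihedralGroup 3) :
    p = r 0 ∨ p = r 1 ∨ p = r 2 ∨ p = sr 0 ∨ p = sr 1 ∨ p = sr 2 := by revert p; decide

theorem act_mul (p : DihedralGroup 3) (u v : BB) : act p (u * v) = act p u * act p v := by
  rcases d3_cases p with rfl | rfl | rfl | rfl | rfl | rfl <;> rfl

theorem act_act (p q : DihedralGroup 3) (u : BB) : act (p * q) u = act p (act q u) := by
  rcases d3_cases p with rfl | rfl | rfl | rfl | rfl | rfl <;>
    rcases d3_cases q with rfl | rfl | rfl | rfl | rfl | rfl <;> rfl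

theorem act_one (p : DihedralGroup 3) : act p 1 = 1 := by revert p; decide

theorem par_act (p : DihedralGroup 3) (u : BB) : par (act p u) = par u := by
  obtain ⟨a, b, c⟩ := u
  have : ∀ a b c : Bool, xor b (xor a c) = xor a (xor b c) ∧ xor c (xor a b) = xor a (xor b c) ∧
    xor b (xor c a) = xor a (xor b c) ∧ xor a (xor c b) = xor a (xor b c) ∧
    xor c (xor b a) = xor a (xor b c) := by decide
  obtain ⟨h1, h2, h3, h4, h5⟩ := this (rf a) (rf b) (rf c)
  rcases d3_cases p with rfl | rfl | rfl | rfl | rfl | rfl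
  exacts [rfl, h2, h3, h1, h4, h5]

/-- the wreath product `S₃ ≀ S₃`. -/
@[ext] structure WW where
  /-- base component -/
  b : BB
  /-- top component -/
  p : DihedralGroup 3
  deriving DecidableEq, Fintype

instance : Mul WW := ⟨fun x y => ⟨x.b * act x.p y.b, x.p * y.p⟩⟩
instance : One WW := ⟨⟨1, 1⟩⟩
instance : Inv WW := ⟨fun x => ⟨act x.p⁻¹ x.b⁻¹, x.p⁻¹⟩⟩

instance : Group WW := Group.ofLeftAxioms
  (fun x y z => WW.ext (show x.b * act x.p y.b * act (x.p * y.p) z.b =
      x.b * act x.p (y.b * act y.p z.b) by rw [act_mul, act_act, mul_assoc]) (mul_assoc x.p y.p z.p))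
  (fun x => WW.ext (one_mul x.b) (one_mul x.p))
  (fun x => WW.ext (show act x.p⁻¹ x.b⁻¹ * act x.p⁻¹ x.b = 1 by
      rw [← act_mul, inv_mul_cancel, act_one]) (inv_mul_cancel x.p))

/-- the action of `S₃` on three points. -/
def sm : DihedralGroup 3 → ZMod 3 → ZMod 3
  | r i, t => t + i
  | sr i, t => 1 - (t + i)

theorem sm_mul (d e : DihedralGroup 3) (t : ZMod 3) : sm (d * e) t = sm d (sm e t) := by
  revert d e t; decide

/-- a coordinate. -/
def cp (u : BB) (k : ZMod 3) : DihedralGroup 3 :=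
  if k = 0 then u.1 else if k = 1 then u.2.1 else u.2.2

theorem cp_mul (u v : BB) (k : ZMod 3) : cp (u * v) k = cp u k * cp v k := by
  unfold cp; split_ifs <;> rfl

theorem cp_act (p : DihedralGroup 3) (u : BB) (k : ZMod 3) : cp (act p u) (sm p k) = cp u k := by
  have : k = 0 ∨ k = 1 ∨ k = 2 := by revert k; decide
  rcases d3_cases p with rfl | rfl | rfl | rfl | rfl | rfl <;> rcases this with rfl | rfl | rfl <;> rfl

instance : MulAction WW (ZMod 3 × ZMod 3) where
  smul w x := (sm w.p x.1, sm (cp w.b (sm w.p x.1)) x.2)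
  one_smul := by decide
  mul_smul v w x := Prod.ext (sm_mul _ _ _) (show sm (cp (v.b * act v.p w.b) (sm (v.p * w.p) x.1)) x.2 =
    sm (cp v.b (sm v.p (sm w.p x.1))) (sm (cp w.b (sm w.p x.1)) x.2) by
      rw [cp_mul, sm_mul, sm_mul, cp_act])

/-- numbering of the nine points. -/
def e9 : ZMod 3 × ZMod 3 ≃ Fin 9 := (finProdFinEquiv : Fin 3 × Fin 3 ≃ Fin (3 * 3))

/-- the permutation representation of degree nine. -/
def io : WW →* Equiv.Perm (Fin 9) :=
  (Equiv.permCongrHom e9).toMonoidHom.comp (MulAction.toPermHom WW (ZMod 3 × ZMod 3))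

theorem io_inj : Function.Injective io := by
  refine (Equiv.permCongrHom e9).injective.comp (f := MulAction.toPermHom WW (ZMod 3 × ZMod 3)) ?_
  rw [injective_iff_map_eq_one]
  have : ∀ w : WW, (∀ x : ZMod 3 × ZMod 3, w • x = x) → w = 1 := by decide +kernel
  exact fun w hw => this w fun x => congrArg (fun f : Equiv.Perm _ => f x) hw

/-- the even part `3³ : S₄` of the wreath product. -/
def HH : Subgroup WW where
  carrier := {x | par x.b = rf x.p}
  mul_mem' {x y} hx hy := by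
    show par (x.b * act x.p y.b) = rf (x.p * y.p)
    rw [par_mul, par_act, rf_mul, show par x.b = rf x.p from hx, show par y.b = rf y.p from hy]
  one_mem' := rfl
  inv_mem' {x} hx := by
    show par (act x.p⁻¹ x.b⁻¹) = rf x.p⁻¹
    rw [par_act, par_inv, rf_inv]; exact hx

instance : DecidablePred (· ∈ HH) := fun x => inferInstanceAs (Decidable (par x.b = rf x.p))

/-- the top component. -/
def pr : HH →* DihedralGroup 3 := MonoidHom.mk' (fun x => x.1.p) fun _ _ => rfl

/-- elements. -/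
def ha : HH := ⟨⟨(r 1, 1, 1), 1⟩, rfl⟩
/-- elements. -/
def hb : HH := ⟨⟨(1, r 1, 1), 1⟩, rfl⟩
/-- elements. -/
def hc : HH := ⟨⟨(1, 1, r 1), 1⟩, rfl⟩
/-- elements. -/
def hz : HH := ⟨⟨(r 1, r 1, r 1), 1⟩, rfl⟩
/-- elements. -/
def ht : HH := ⟨⟨(sr 0, sr 0, 1), 1⟩, rfl⟩
/-- elements. -/
def hs : HH := ⟨⟨1, r 1⟩, rfl⟩
/-- elements. -/
def hr : HH := ⟨⟨(1, 1, sr 0), sr 0⟩, rfl⟩
/-- elements. -/
def hw : HH := ⟨⟨(1, sr 0, 1), sr 1⟩, rfl⟩

/-- all coordinates are rotations. -/
def rot (u : BB) : Bool := !(rf u.1) && !(rf u.2.1) && !(rf u.2.2)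

theorem rot_mul {u v : BB} (hu : rot u = true) (hv : rot v = true) : rot (u * v) = true := by
  simp only [rot, Prod.fst_mul, Prod.snd_mul, rf_mul, Bool.and_eq_true, Bool.not_eq_true'] at *
  simp [hu, hv]

theorem rot_act (p : DihedralGroup 3) (u : BB) : rot (act p u) = rot u := by
  obtain ⟨a, b, c⟩ := u
  have : ∀ a b c : Bool, (b && a && c) = (a && b && c) ∧ (c && a && b) = (a && b && c) ∧
    (b && c && a) = (a && b && c) ∧ (a && c && b) = (a && b && c) ∧
    (c && b && a) = (a && b && c) := by decide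
  obtain ⟨h1, h2, h3, h4, h5⟩ := this (!rf a) (!rf b) (!rf c)
  rcases d3_cases p with rfl | rfl | rfl | rfl | rfl | rfl
  exacts [rfl, h2, h3, h1, h4, h5]

/-- a Sylow 3-subgroup. -/
def SS : Subgroup HH where
  carrier := {x | rot x.1.b = true}
  mul_mem' {x y} hx hy := rot_mul hx ((rot_act _ _).trans hy)
  one_mem' := rfl
  inv_mem' {x} hx := by
    show rot (act x.1.p⁻¹ x.1.b⁻¹) = true
    have hx' : rot x.1.b = true := hx
    rw [rot_act]
    simpa only [rot, Prod.fst_inv, Prod.snd_inv, rf_inv] using hx'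

instance : DecidablePred (· ∈ SS) := fun x => inferInstanceAs (Decidable (rot x.1.b = true))

/-- the normal subgroup `3³`. -/
def JJ : Subgroup HH := SS ⊓ pr.ker

instance : DecidablePred (· ∈ JJ) := fun x => inferInstanceAs (Decidable (rot x.1.b = true ∧ x.1.p = 1))

theorem hh_card : Fintype.card HH = 648 := by decide +kernel

theorem hh_36 (x : HH) : (x ^ 9) ^ 4 = 1 := by revert x; decide +kernel

theorem ss_nine (x : HH) (h : x ∈ SS) : x ^ 9 = 1 := by revert x; decide +kernel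

theorem jj_iff (x : HH) : x ∈ JJ ↔ pr x = 1 ∧ x ^ 3 = 1 := by revert x; decide +kernel

theorem jj_comm (x : HH) (hx : x ∈ JJ) : x * ha = ha * x := by revert x; decide +kernel

theorem jj_comm' (x : HH) (hx : x ∈ JJ) : ∃ i j k : Fin 3, x = ha ^ i.val * hb ^ j.val * hc ^ k.val := by
  revert x; decide +kernel

theorem jj_wt (j : HH) (hj : j ∈ JJ) (h1 : j ≠ 1) : (∃ h : HH, h * ha * h⁻¹ = j) ∨
    ∀ x : HH, x * j = j * x → x ^ 4 = 1 → x ^ 2 = 1 := by
  revert j; decide +kernel

theorem core_aux (x : HH) (h : x ^ 9 = 1) : x ∈ JJ ∨ (x * (ht * x⁻¹ * ht⁻¹)) ^ 9 ≠ 1 := by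
  revert x; decide +kernel

theorem ss_norm (y : HH) (h : y ^ 9 = 1) (h' : y * hs * y⁻¹ ∈ SS) : y ∈ SS := by
  revert y; decide +kernel

theorem ss_al (y : HH) (h : y ∈ SS) : al (pr y) = if y ∈ JJ then 0 else 3 := by
  revert y; decide +kernel

theorem cnt296 : ∑ x : HH, (if x ^ 4 ∈ JJ ∧ x ^ 4 ≠ 1 then 1 else 0 : ℤ) = 296 := by decide +kernel

theorem ss_cases (y : HH) (h : y ∈ SS) (h' : y ∉ JJ) : (pr y ≠ 1 ∧ pr y ^ 3 = 1) ∧
    ((y ^ 3 ∈ JJ ∧ y ^ 3 ≠ 1) ∨ ∃ h : HH, h * y * h⁻¹ = hs) := by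
  revert y; decide +kernel

theorem rho_cent (x : HH) (h : x * x = 1) (h' : pr x ≠ 1) : ∃ j : HH, j ∈ JJ ∧ j ≠ 1 ∧ j * x = x * j ∧
    ∀ q : HH, q * x = x * q → q ^ 9 = 1 → q = 1 ∨ q = j ∨ q = j ^ 2 := by
  revert x; decide +kernel

theorem cent_s (x : HH) (h : x * hs = hs * x) : ∃ i j : Fin 3, x = hs ^ i.val * hz ^ j.val := by
  revert x; decide +kernel

theorem inv_s (x : HH) (h : x * hs * x⁻¹ = hs⁻¹) : x * hz * x⁻¹ = hz⁻¹ := by
  revert x; decide +kernel

theorem inv_z (x : HH) (h : x * hz * x⁻¹ = hz⁻¹) : pr x ≠ 1 := by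
  revert x; decide +kernel

theorem rot_nine (x : HH) (h : pr x ≠ 1 ∧ pr x ^ 3 = 1) : x ^ 9 = 1 := by
  revert x; decide +kernel

theorem d3_comm (p : DihedralGroup 3) (h : p ≠ 1) : ∃ q : HH, p * (pr q * p⁻¹ * (pr q)⁻¹) ≠ 1 ∧
    (p * (pr q * p⁻¹ * (pr q)⁻¹)) ^ 3 = 1 := by
  rcases d3_cases p with rfl | rfl | rfl | rfl | rfl | rfl
  · exact absurd rfl h
  all_goals first | exact ⟨hr, by decide⟩ | exact ⟨hs, by decide⟩

theorem gen1 (x : HH) : ∃ m : Fin 3, ∃ n : Fin 2, pr (x * (hs ^ m.val * hr ^ n.val)) = 1 := by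
  revert x; decide +kernel

theorem gen2 (x : HH) (h : pr x = 1) : ∃ m n : Fin 2,
    x * (ht ^ m.val * (hs * ht * hs⁻¹) ^ n.val) ∈ JJ := by
  revert x; decide +kernel

end Cfsg.Agent.H93.Hay
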