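import Mathlib
import Cfsg.Agent.H93.Hayden2
import Cfsg.Agent.H20.T27

/-! A strongly closed subgroup `3³` with `3³ : S₄` containing all centralisers. -/

set_option autoImplicit false

namespace Cfsg.Agent.H93.Hay

open Subgroup Cfsg Cfsg.Agent.H57 Cfsg.Agent.H63 Cfsg.Agent.H8 DihedralGroup Cfsg.Agent.H18

variable {G : Type*} [Group G]

theorem syl_of [Finite G] {E L : Subgroup G} (hE : IsPGroup 3 E) (hL : E ≤ L)
    (h : ∀ n ∈ L, n ∈ N[E] → (∃ k : ℕ, n ^ 3 ^ k = 1) → n ∈ E) : IsSylowIn 3 E L := by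
  refine isSylowIn_of_maximal hL hE fun Q hQ hQL hEQ => ?_
  by_contra hc
  obtain ⟨n, hn, hnE⟩ := SetLike.exists_of_lt
    (lt_inf_normalizer_of_lt hQ (lt_of_le_of_ne hEQ fun e => hc e.ge))
  obtain ⟨k, hk⟩ := hQ ⟨n, hn.1⟩
  exact hnE (h n (hQL hn.1) hn.2 ⟨k, congrArg Subtype.val hk⟩)

theorem syl_conj [Finite G] {E L : Subgroup G} (h : IsSylowIn 3 E L) {y : G} (hy : y ∈ L)
    (h3 : ∃ k : ℕ, y ^ 3 ^ k = 1) : ∃ c ∈ L, c * y * c⁻¹ ∈ E := by
  obtain ⟨k, hk⟩ := h3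
  have hp : IsPGroup 3 (zpowers y) := fun ⟨_, m, e⟩ => ⟨k, Subtype.ext (by
    show _ ^ 3 ^ k = (1 : G)
    simp only [← e]
    rw [← zpow_natCast, ← zpow_mul, mul_comm, zpow_mul, zpow_natCast, hk, one_zpow])⟩
  obtain ⟨c, hc, hle⟩ := h.exists_conj_le hp (zpowers_le.2 hy)
  exact ⟨c, hc, hle (conj_mem_conj_smul.2 (mem_zpowers y))⟩

theorem nine_of_pow {x : HH} {k : ℕ} (h : x ^ 3 ^ k = 1) : x ^ 9 = 1 := by
  have h1 : (x ^ 9) ^ 3 ^ k = 1 := by rw [← pow_mul, mul_comm, pow_mul, h, one_pow]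
  have := pow_gcd_eq_one.2 ⟨h1, hh_36 x⟩
  rwa [(Nat.Coprime.pow_left k (by norm_num : Nat.Coprime 3 4)).gcd_eq_one, pow_one] at this

instance : JJ.Normal := ⟨fun n hn g => by
  rw [jj_iff] at hn ⊢
  exact ⟨by simp [hn.1], by rw [conj_pow, hn.2]; simp⟩⟩

theorem jj_conj (x y : HH) : y * x * y⁻¹ ∈ JJ ↔ x ∈ JJ :=
  ⟨fun h => by simpa [mul_assoc] using Normal.conj_mem inferInstance _ h y⁻¹,
    fun h => Normal.conj_mem inferInstance _ h y⟩

theorem pCore_HH : pCore 3 HH = JJ := by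
  refine le_antisymm (fun x hx => ?_) (H3.le_pCore fun x => ⟨1, Subtype.ext ((jj_iff _).1 x.2).2⟩)
  have key : ∀ y ∈ pCore 3 HH, y ^ 9 = 1 := fun y hy => by
    obtain ⟨k, hk⟩ := H3.pCore_isPGroup 3 HH ⟨y, hy⟩
    exact nine_of_pow (congrArg Subtype.val hk)
  refine (core_aux x (key x hx)).resolve_right fun h => h (key _ ?_)
  exact mul_mem hx (Normal.conj_mem inferInstance _ (inv_mem hx) _)

theorem jj_mul_comm {x y : HH} (hx : x ∈ JJ) (hy : y ∈ JJ) : x * y = y * x := by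
  obtain ⟨i, j, k, rfl⟩ := jj_comm' y hy
  have h1 : Commute x ha := jj_comm x hx
  have h2 : Commute x hb := by
    have := jj_comm _ (Normal.conj_mem inferInstance x hx hs⁻¹)
    rw [show hb = hs * ha * hs⁻¹ by decide]
    calc _ = hs * (hs⁻¹ * x * hs⁻¹⁻¹ * ha) * hs⁻¹ := by group
      _ = _ := by rw [this]; group
  have h3 : Commute x hc := by
    have := jj_comm _ (Normal.conj_mem inferInstance x hx hs)
    rw [show hc = hs⁻¹ * ha * hs by decide]
    calc _ = hs⁻¹ * (hs * x * hs⁻¹ * ha) * hs := by group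
      _ = _ := by rw [this]; group
  exact ((h1.pow_right _).mul_right (h2.pow_right _)).mul_right (h3.pow_right _)

/-- identification of the two models of `S₃`. -/
def dl : Equiv.Perm (Fin 3) →* DihedralGroup 3 :=
  MonoidHom.mk' (fun s => if s 1 = s 0 + 1 then r (s 0) else sr (1 - s 0 : Fin 3))
    (by decide +kernel)

theorem dl_rf (s : Equiv.Perm (Fin 3)) : rf (dl s) = decide (Equiv.Perm.sign s = -1) := by
  revert s; decide +kernel

/-- the base group. -/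
def emb : H20.T27.W →* HH :=
  MonoidHom.mk' (fun w => ⟨⟨(dl (w.1 0), dl (w.1 1), dl (w.1 2)), 1⟩, by
      have h : Equiv.Perm.sign (w.1 0) * Equiv.Perm.sign (w.1 1) * Equiv.Perm.sign (w.1 2) = 1 := w.2
      show par _ = false
      simp only [par, dl_rf]
      revert h
      generalize Equiv.Perm.sign (w.1 0) = a, Equiv.Perm.sign (w.1 1) = b,
        Equiv.Perm.sign (w.1 2) = c
      revert a b c
      decide⟩)
    fun a b => Subtype.ext (WW.ext (by
      show (dl (a.1 0 * b.1 0), dl (a.1 1 * b.1 1), dl (a.1 2 * b.1 2)) = _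
      simp only [map_mul]; rfl) (mul_one _).symm)

theorem emb_inj : Function.Injective emb := by
  rw [injective_iff_map_eq_one]
  decide +kernel

theorem emb_gens : emb (H20.T27.cc 0) = ha ∧ emb (H20.T27.cc 1) = hb ∧ emb (H20.T27.cc 2) = hc ∧
    emb (H20.T27.tt 2) = ht ∧ emb (H20.T27.tt 1) = hs⁻¹ * ht * hs := by decide +kernel

theorem emb_surj (x : HH) (h : pr x = 1) : x ∈ emb.range := by
  obtain ⟨m, n, h1⟩ := gen2 x h
  obtain ⟨i, j, k, e⟩ := jj_comm' _ h1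
  obtain ⟨h0, h1, h2, h3, h4⟩ := emb_gens
  have h5 : hs * ht * hs⁻¹ ∈ emb.range := by
    rw [show hs * ht * hs⁻¹ = ht * (hs⁻¹ * ht * hs) by decide]
    exact mul_mem ⟨_, h3⟩ ⟨_, h4⟩
  refine (mul_mem_cancel_right (mul_mem (pow_mem (show ht ∈ emb.range from ⟨_, h3⟩) m.val)
    (pow_mem h5 n.val))).1 ?_
  rw [e]
  exact mul_mem (mul_mem (pow_mem (show ha ∈ emb.range from ⟨_, h0⟩) _)
    (pow_mem (show hb ∈ emb.range from ⟨_, h1⟩) _)) (pow_mem (show hc ∈ emb.range from ⟨_, h2⟩) _)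

theorem map_io : (io.comp HH.subtype).range = closure ({Equiv.swap (0 : Fin 9) 1 * Equiv.swap 1 2,
    Equiv.swap (0 : Fin 9) 3 * Equiv.swap 3 6 * (Equiv.swap (1 : Fin 9) 4 * Equiv.swap 4 7) *
      (Equiv.swap (2 : Fin 9) 5 * Equiv.swap 5 8),
    Equiv.swap (0 : Fin 9) 1 * Equiv.swap 3 4,
    Equiv.swap (0 : Fin 9) 3 * Equiv.swap 1 4 * Equiv.swap 2 5 * Equiv.swap 6 7} :
      Set (Equiv.Perm (Fin 9))) := by
  have h0 : io.comp HH.subtype ha = Equiv.swap (0 : Fin 9) 1 * Equiv.swap 1 2 := by decide +kernel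
  have h1 : io.comp HH.subtype hs = Equiv.swap (0 : Fin 9) 3 * Equiv.swap 3 6 *
      (Equiv.swap (1 : Fin 9) 4 * Equiv.swap 4 7) * (Equiv.swap (2 : Fin 9) 5 * Equiv.swap 5 8) := by
    decide +kernel
  have h2 : io.comp HH.subtype ht = Equiv.swap (0 : Fin 9) 1 * Equiv.swap 3 4 := by decide +kernel
  have h3 : io.comp HH.subtype hr =
      Equiv.swap (0 : Fin 9) 3 * Equiv.swap 1 4 * Equiv.swap 2 5 * Equiv.swap 6 7 := by decide +kernel
  rw [← h0, ← h1, ← h2, ← h3]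
  refine le_antisymm ?_ ((closure_le _).2 ?_)
  · rintro _ ⟨x, rfl⟩
    set L := (closure ({io.comp HH.subtype ha, io.comp HH.subtype hs, io.comp HH.subtype ht,
      io.comp HH.subtype hr} : Set (Equiv.Perm (Fin 9)))).comap (io.comp HH.subtype)
    have a0 : ha ∈ L := subset_closure (by simp)
    have a1 : hs ∈ L := subset_closure (by simp)
    have a2 : ht ∈ L := subset_closure (by simp)
    have a3 : hr ∈ L := subset_closure (by simp)
    have b1 : hb ∈ L := by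
      rw [show hb = hs * ha * hs⁻¹ by decide]; exact mul_mem (mul_mem a1 a0) (inv_mem a1)
    have b2 : hc ∈ L := by
      rw [show hc = hs⁻¹ * ha * hs by decide]; exact mul_mem (mul_mem (inv_mem a1) a0) a1
    show x ∈ L
    obtain ⟨m, n, e1⟩ := gen1 x
    obtain ⟨m', n', e2⟩ := gen2 _ e1
    obtain ⟨i, j, k, e⟩ := jj_comm' _ e2
    refine (mul_mem_cancel_right (mul_mem (pow_mem a1 m.val) (pow_mem a3 n.val))).1
      ((mul_mem_cancel_right (mul_mem (pow_mem a2 m'.val)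
        (pow_mem (mul_mem (mul_mem a1 a2) (inv_mem a1)) n'.val))).1 ?_)
    rw [e]
    exact mul_mem (mul_mem (pow_mem a0 _) (pow_mem b1 _)) (pow_mem b2 _)
  · rintro _ (rfl | rfl | rfl | rfl) <;> exact ⟨_, rfl⟩

/-- the hypothesis. -/
structure M4 (φ : HH →* G) : Prop where
  inj : Function.Injective φ
  cent : ∀ x ∈ JJ, x ≠ 1 → C1[φ x] ≤ φ.range
  sc : ∀ x ∈ JJ, ∀ g y, g * φ x * g⁻¹ = φ y → y ∈ JJ

/-- conjugate into `J`. -/
def CJ (φ : HH →* G) (u : G) : Prop := ∃ g x, x ∈ JJ ∧ g * u * g⁻¹ = φ x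

theorem CJ.conj {φ : HH →* G} {u : G} (c : G) : CJ φ (c * u * c⁻¹) ↔ CJ φ u :=
  ⟨fun ⟨g, x, hx, e⟩ => ⟨g * c, x, hx, by rw [← e]; group⟩,
    fun ⟨g, x, hx, e⟩ => ⟨g * c⁻¹, x, hx, by rw [← e]; group⟩⟩

namespace M4

variable {φ : HH →* G} (h : M4 φ)
include h

theorem ti {x : HH} (hx : x ∈ JJ) (x1 : x ≠ 1) {g : G} (hg : g * φ x * g⁻¹ ∈ φ.range) :
    g ∈ φ.range := by
  have ne : ∀ {x y : HH}, g * φ x * g⁻¹ = φ y → x ≠ 1 → y ≠ 1 := by
    rintro x y e x1 rfl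
    rw [map_one, conj_eq_one_iff, ← map_one φ] at e
    exact x1 (h.inj e)
  have cm : ∀ {x y z : HH}, g * φ x * g⁻¹ = φ y → z * x = x * z → g * φ z * g⁻¹ ∈ C1[φ y] :=
    fun e c => by rw [mem_centralizer_singleton_iff, ← e, conj_mul, conj_mul, ← map_mul, ← map_mul, c]
  obtain ⟨y, hy⟩ := hg
  have aJ : ha ∈ JJ := by decide
  obtain ⟨a, ea⟩ := h.cent y (h.sc x hx g y hy.symm) (ne hy.symm x1) (cm hy.symm (jj_comm x hx).symm)
  have aJ' := h.sc _ aJ g a ea.symm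
  have a1 := ne ea.symm (show ha ≠ 1 by decide)
  obtain ⟨w, ew⟩ := h.cent a aJ' a1 (cm (z := hw) ea.symm (by decide))
  rcases jj_wt a aJ' a1 with ⟨k, hk⟩ | hk
  · have : (φ k)⁻¹ * g ∈ C1[φ ha] := by
      rw [mem_centralizer_singleton_iff, ← mul_inv_eq_iff_eq_mul]
      calc _ = (φ k)⁻¹ * (g * φ ha * g⁻¹) * φ k := by group
        _ = _ := by rw [← ea, ← hk, map_mul, map_mul, map_inv]; group
    exact (mul_mem_cancel_left (inv_mem (show φ k ∈ φ.range from ⟨k, rfl⟩))).1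
      (h.cent _ aJ (by decide) this)
  · exfalso
    have h2 := hk w (h.inj (by
      rw [map_mul, map_mul, ew, ea, conj_mul, conj_mul, ← map_mul, ← map_mul,
        show hw * ha = ha * hw by decide])) (h.inj (by
      rw [map_pow, ew, conj_pow, ← map_pow, show hw ^ 4 = 1 by decide]; simp))
    exact ne (x := hw ^ 2) (y := w ^ 2) (by rw [map_pow, map_pow, ew, conj_pow]) (by decide) h2

theorem cj_iff (x : HH) : CJ φ (φ x) ↔ x ∈ JJ :=
  ⟨fun ⟨g, y, hy, e⟩ => h.sc y hy g⁻¹ x (by rw [← e]; group), fun hx => ⟨1, x, hx, by simp⟩⟩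

theorem nine {x : HH} (hx : ∃ k : ℕ, φ x ^ 3 ^ k = 1) : x ^ 9 = 1 := by
  obtain ⟨k, hk⟩ := hx
  exact nine_of_pow (k := k) (h.inj (by rw [map_pow, hk, map_one]))

variable [Finite G]

theorem syl : IsSylowIn 3 (SS.map φ) ⊤ := by
  refine syl_of (IsPGroup.map (fun x => ⟨2, Subtype.ext (ss_nine _ x.2)⟩) φ) le_top
    fun n _ hn h3 => ?_
  have key : ∀ x ∈ SS, n * φ x * n⁻¹ ∈ SS.map φ := fun x hx =>
    (mem_normalizer_iff.1 hn _).1 ⟨x, hx, rfl⟩
  obtain ⟨y, rfl⟩ := h.ti (x := ha) (by decide) (by decide) (map_le_range _ _ (key _ (by decide)))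
  obtain ⟨z, hz, e⟩ := key hs (by decide)
  refine ⟨y, ss_norm y (h.nine h3) ?_, rfl⟩
  rwa [← h.inj (show φ z = φ (y * hs * y⁻¹) by rw [e, map_mul, map_mul, map_inv])]

theorem nc {x : HH} (x2 : x * x = 1) (hx : pr x ≠ 1) (g : G) : g * φ ht * g⁻¹ ≠ φ x := by
  intro hg
  obtain ⟨j, hj, j1, c, hq⟩ := rho_cent x x2 hx
  have j3 := ((jj_iff j).1 hj).2
  have hs : IsSylowIn 3 (zpowers (φ j)) C1[φ x] := by
    refine syl_of (isPGroup_zpowers_of_pow (by rw [← map_pow, j3, map_one])) (zpowers_le.2 (by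
      rw [mem_centralizer_singleton_iff, ← map_mul, ← map_mul, c])) fun n hn hN h3 => ?_
    obtain ⟨q, rfl⟩ := h.ti hj j1 (zpowers_le.2 (show φ j ∈ φ.range from ⟨j, rfl⟩)
      ((mem_normalizer_iff.1 hN _).1 (mem_zpowers _)))
    rcases hq q (h.inj (by rw [map_mul, map_mul, mem_centralizer_singleton_iff.1 hn])) (h.nine h3)
      with rfl | rfl | rfl
    · rw [map_one]; exact one_mem _
    · exact mem_zpowers _
    · rw [map_pow]; exact pow_mem (mem_zpowers _) _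
  obtain ⟨l, hl, hm⟩ := syl_conj hs (y := g * φ hc * g⁻¹) (by
    rw [mem_centralizer_singleton_iff, ← hg, conj_mul, conj_mul, ← map_mul, ← map_mul,
      show hc * ht = ht * hc by decide]) ⟨1, by
    rw [conj_pow, ← map_pow, show hc ^ 3 ^ 1 = 1 by decide]; simp⟩
  obtain ⟨w, hw⟩ := h.ti (x := hc) (g := l * g) (by decide) (by decide) (by
    simpa [mul_assoc] using zpowers_le.2 (show φ j ∈ φ.range from ⟨j, rfl⟩) hm)
  have e : φ (w * ht * w⁻¹) = φ x := by
    rw [map_mul, map_mul, map_inv, hw]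
    calc _ = l * (g * φ ht * g⁻¹) * l⁻¹ := by group
      _ = _ := by rw [hg, mem_centralizer_singleton_iff.1 hl, mul_inv_cancel_right]
  apply hx
  rw [← h.inj e, map_mul, map_mul, show pr ht = 1 from rfl]
  simp

theorem inv_sigma {p : G} (p2 : p * p = 1) (hp : p * φ hs * p⁻¹ = (φ hs)⁻¹) :
    ∃ c : G, c * p * c⁻¹ * φ hz * (c * p * c⁻¹)⁻¹ = (φ hz)⁻¹ := by
  set C := C1[φ hs] with hC
  set E := (centralizer ({hs} : Set HH)).map φ with hE
  have zJ : hz ∈ JJ := by decide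
  have z1 : hz ≠ 1 := by decide
  have zE : φ hz ∈ E := ⟨hz, mem_centralizer_singleton_iff.2 (by decide), rfl⟩
  have EC : E ≤ C := by
    rintro _ ⟨x, hx, rfl⟩
    rw [hC, mem_centralizer_singleton_iff, ← map_mul, ← map_mul, mem_centralizer_singleton_iff.1 hx]
  have c0 : Commute hs hz := show hs * hz = hz * hs by decide
  have nE : ∀ n ∈ C, n ∈ N[E] → n ∈ E := fun n hn hN => by
    obtain ⟨q, rfl⟩ := h.ti zJ z1 (map_le_range _ _ ((mem_normalizer_iff.1 hN _).1 zE))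
    exact ⟨q, mem_centralizer_singleton_iff.2
      (h.inj (by rw [map_mul, map_mul, mem_centralizer_singleton_iff.1 hn])), rfl⟩
  have hsy : IsSylowIn 3 E C := by
    refine syl_of (IsPGroup.map (fun x => ⟨1, Subtype.ext ?_⟩) φ) EC fun n hn hN _ => nE n hn hN
    obtain ⟨i, j, e⟩ := cent_s x.1 (mem_centralizer_singleton_iff.1 x.2)
    show x.1 ^ 3 ^ 1 = 1
    rw [e]
    clear e
    revert i j
    decide
  have cE : ∀ x ∈ E, ∀ y ∈ E, x * y = y * x := by
    rintro _ ⟨x, hx, rfl⟩ _ ⟨y, hy, rfl⟩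
    obtain ⟨i, j, rfl⟩ := cent_s x (mem_centralizer_singleton_iff.1 hx)
    obtain ⟨k, l, rfl⟩ := cent_s y (mem_centralizer_singleton_iff.1 hy)
    rw [← map_mul, ← map_mul]
    congr 1
    exact (((Commute.refl hs).pow_pow _ _).mul_right (c0.pow_pow _ _)).mul_left
      ((c0.symm.pow_pow _ _).mul_right ((Commute.refl hz).pow_pow _ _))
  let P : Sylow 3 C := hsy.toSylow
  have hP : normalizer (P : Set C) ≤ centralizer (P : Set C) := fun n hn y hy => by
    have hn' : n ∈ N[E].subgroupOf C := by rw [← H67.normalizer_subgroupOf EC]; exact hn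
    exact Subtype.ext (cE _ hy _ (nE n n.2 hn'))
  have hcomm : IsMulCommutative (P : Subgroup C) :=
    ⟨⟨fun a b => Subtype.ext (Subtype.ext (cE _ a.2 _ b.2))⟩⟩
  let f := MonoidHom.transferSylow P hP
  have fc : ∀ c y : C, f (c * y * c⁻¹) = f y := fun c y => by
    rw [map_mul, map_mul, map_inv, hcomm.1.1 (f c), mul_inv_cancel_right]
  have finj : ∀ x y : C, (x : G) ∈ E → (y : G) ∈ E → f x = f y → x = y := fun x y hx hy e => by
    have hf : Function.Bijective (f.domRestrict (P : Subgroup C)) :=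
      (MonoidHom.transferSylow_domRestrict_eq_pow P hP).symm ▸
        (P.2.powEquiv' P.not_dvd_index).bijective
    exact congrArg Subtype.val (hf.1 (a₁ := ⟨x, hx⟩) (a₂ := ⟨y, hy⟩) e)
  have pi : p⁻¹ = p := inv_eq_of_mul_eq_one_right p2
  have pC : ∀ y ∈ C, p * y * p⁻¹ ∈ C := fun y hy => by
    rw [hC, mem_centralizer_singleton_iff] at hy ⊢
    have e : φ hs = p * (φ hs)⁻¹ * p⁻¹ := by rw [← conj_inv, hp, inv_inv]
    rw [e, conj_mul, conj_mul, (show Commute y (φ hs) from hy).inv_right.eq]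
  have z3 : φ hz ^ 3 = 1 := by rw [← map_pow, show hz ^ 3 = 1 by decide, map_one]
  obtain ⟨c, hc, hm⟩ := syl_conj hsy (pC _ (EC zE)) ⟨1, by rw [conj_pow, pow_one, z3]; simp⟩
  obtain ⟨x, hx⟩ := h.ti (g := c * p) zJ z1 (by simpa [mul_assoc] using map_le_range _ _ hm)
  have e1 : c * (p * φ hz * p⁻¹) * c⁻¹ = (φ hz)⁻¹ := by
    have := inv_s x (h.inj (by
      rw [map_mul, map_mul, map_inv, map_inv, hx]
      calc _ = c * (p * φ hs * p⁻¹) * c⁻¹ := by group
        _ = _ := by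
          rw [hp, (show Commute c (φ hs) from mem_centralizer_singleton_iff.1 hc).inv_right.eq,
            mul_inv_cancel_right]))
    rw [← map_inv, ← this, map_mul, map_mul, map_inv, hx]; group
  let z : C := ⟨_, EC zE⟩
  let y : C := ⟨_, pC _ (EC zE)⟩ * z⁻¹
  have fy : f y = f z := by
    have h1 : f ⟨_, pC _ (EC zE)⟩ = (f z)⁻¹ := by
      rw [← fc ⟨c, hc⟩, ← map_inv]; congr 1; exact Subtype.ext e1
    have h2 : f z ^ 3 = 1 := by rw [← map_pow, show z ^ 3 = 1 from Subtype.ext z3, map_one]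
    rw [map_mul, map_inv, h1, ← mul_inv_rev, inv_eq_iff_mul_eq_one, ← h2, pow_succ, pow_two]
  have py : p * y * p⁻¹ = (y : G)⁻¹ := by
    show p * (p * φ hz * p⁻¹ * (φ hz)⁻¹) * p⁻¹ = (p * φ hz * p⁻¹ * (φ hz)⁻¹)⁻¹
    calc _ = (p * p) * φ hz * p⁻¹ * (φ hz)⁻¹ * p⁻¹ := by group
      _ = _ := by rw [p2]; conv_lhs => rw [pi]
                  simp only [mul_inv_rev, inv_inv, pi, one_mul, mul_assoc]
  obtain ⟨u, hu⟩ := H20.exists_pPart Nat.prime_three (y : G)
  have uC : u ∈ C := H20.pPart_mem Nat.prime_three hu y.2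
  have pu : p * u * p⁻¹ = u⁻¹ :=
    H20.pPart_unique Nat.prime_three (py ▸ H20.pPart_conj hu p) (H20.pPart_inv hu)
  obtain ⟨v, uv, -, ⟨k, hk⟩, hv⟩ := hu
  have vC : v ∈ C := (mul_mem_cancel_left uC).1 (uv ▸ y.2)
  have fv : f ⟨v, vC⟩ = 1 := by
    obtain ⟨m, hm⟩ := P.2.exists_orderOf_eq_pow (f ⟨v, vC⟩)
    have := orderOf_map_dvd f ⟨v, vC⟩
    rw [hm, ← Subgroup.orderOf_coe] at this
    rcases m with _ | m
    · simpa using hm
    · exact absurd ((dvd_pow_self 3 (Nat.succ_ne_zero m)).trans this) hv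
  have fu : f ⟨u, uC⟩ = f z := by
    rw [← fy, show y = ⟨u, uC⟩ * ⟨v, vC⟩ from Subtype.ext uv.symm, map_mul, fv, mul_one]
  obtain ⟨d, hd, hm⟩ := syl_conj hsy uC ⟨k, by rw [← hk, pow_orderOf_eq_one]⟩
  have e2 : d * u * d⁻¹ = φ hz := congrArg Subtype.val
    (finj (⟨d, hd⟩ * ⟨u, uC⟩ * ⟨d, hd⟩⁻¹) z hm zE (by rw [fc, fu]))
  refine ⟨d, ?_⟩
  rw [← e2]
  calc _ = d * (p * u * p⁻¹) * d⁻¹ := by group
    _ = _ := by rw [pu]; group

theorem inv_not {p u : G} (p2 : p * p = 1) (hp : p * u * p⁻¹ = u⁻¹) (h3 : ∃ k : ℕ, u ^ 3 ^ k = 1)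
    (hu : ¬ CJ φ u) (g : G) : g * φ ht * g⁻¹ ≠ p := by
  have key : ∀ (c : G) (x : HH), φ x = c * p * c⁻¹ → pr x ≠ 1 → g * φ ht * g⁻¹ ≠ p :=
    fun c x e hx hg => h.nc (h.inj (by rw [map_mul, e, conj_mul, p2]; simp)) hx (c * g)
      (by rw [e, ← hg]; group)
  obtain ⟨c, -, y, hy, e⟩ := syl_conj h.syl (mem_top u) h3
  have yJ : y ∉ JJ := fun hJ => hu ⟨c, y, hJ, e.symm⟩
  have e1 : c * p * c⁻¹ * φ y * (c * p * c⁻¹)⁻¹ = (φ y)⁻¹ := by
    rw [e]
    calc _ = c * (p * u * p⁻¹) * c⁻¹ := by group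
      _ = _ := by rw [hp]; group
  obtain ⟨hr, ⟨h1, h2⟩ | ⟨k, hk⟩⟩ := ss_cases y hy yJ
  · obtain ⟨x, hx⟩ := h.ti (g := c * p * c⁻¹) h1 h2 ⟨y⁻¹ ^ 3, by
      rw [map_pow, map_pow, ← conj_pow, e1, map_inv]⟩
    refine key c x hx fun hx1 => ?_
    have e2 : x * y * x⁻¹ = y⁻¹ := h.inj (by rw [map_mul, map_mul, map_inv, map_inv, hx, e1])
    have e3 := congrArg pr e2
    rw [map_mul, map_mul, map_inv, map_inv, hx1] at e3
    revert hr e3
    generalize pr y = s
    revert s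
    decide
  · have e2 : φ hs = φ k * φ y * (φ k)⁻¹ := by rw [← hk, map_mul, map_mul, map_inv]
    obtain ⟨d, hd⟩ := h.inv_sigma (p := φ k * (c * p * c⁻¹) * (φ k)⁻¹)
      (by rw [conj_mul, conj_mul, p2]; simp) (by
        rw [e2]
        calc _ = φ k * (c * p * c⁻¹ * φ y * (c * p * c⁻¹)⁻¹) * (φ k)⁻¹ := by group
          _ = _ := by rw [e1]; group)
    obtain ⟨x, hx⟩ := h.ti (x := hz) (by decide) (by decide) ⟨hz⁻¹, by rw [hd, map_inv]⟩
    refine key (d * φ k * c) x (by rw [hx]; group) (inv_z x (h.inj ?_))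
    rw [map_mul, map_mul, map_inv, map_inv, hx, hd]

theorem exists_normal : ∃ K : Subgroup G, K.Normal ∧ φ ht ∈ K ∧ ∀ x, φ x ∈ K → pr x = 1 := by
  classical
  have := Fintype.ofFinite G
  let f0 : G → ℂ := fun u => if CJ φ u then 0 else 3
  have hgen : IsGeneralizedCharacter G (fun g => f0 (ppart 3 g)) := by
    refine ST.star_isGen (fun g c => by simp only [f0, CJ.conj]) fun Q hQ => ?_
    obtain ⟨c, -, hle⟩ := h.syl.exists_conj_le hQ le_top
    have hm : ∀ q : Q, c * q * c⁻¹ ∈ SS.map φ := fun q => hle (conj_mem_conj_smul.2 q.2)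
    let ψ : Q →* HH := (MonoidHom.ofInjective h.inj).symm.toMonoidHom.comp
      (((MulAut.conj c).toMonoidHom.comp Q.subtype).codRestrict φ.range
        fun q => map_le_range _ _ (hm q))
    have hψ : ∀ q : Q, φ (ψ q) = c * q * c⁻¹ := fun q =>
      MonoidHom.apply_ofInjective_symm h.inj _
    convert H11.isGen_comp al_isGen (pr.comp ψ) using 2 with q
    obtain ⟨y, hy, e⟩ := hm q
    have : ψ q = y := h.inj (by rw [hψ, e])
    simp only [f0, MonoidHom.comp_apply, this, ss_al y hy, ← CJ.conj (u := (q : G)) c, ← e, h.cj_iff]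
    split_ifs <;> simp
  have reg : ∀ a : G, a * a = 1 → f0 (ppart 3 a) = 0 := fun a ha => by
    have : ppart 3 a = 1 := ppart_eq_iff.2 (H20.pPart_one_of_not_dvd fun hd => by
      have := hd.trans (orderOf_dvd_of_pow_eq_one (show a ^ 2 = 1 by rw [pow_two, ha]))
      omega)
    rw [this]
    exact if_pos ⟨1, 1, one_mem _, by simp⟩
  have val : ∀ x : HH, pr x ≠ 1 ∧ pr x ^ 3 = 1 → f0 (ppart 3 (φ x)) = 3 := fun x hx => by
    have : ppart 3 (φ x) = φ x := ppart_eq_iff.2 (H20.pPart_self Nat.prime_three (by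
      have := orderOf_dvd_of_pow_eq_one (show φ x ^ 3 ^ 2 = 1 by
        rw [← map_pow, show 3 ^ 2 = 9 from rfl, rot_nine x hx, map_one])
      obtain ⟨k, -, hk⟩ := (Nat.dvd_prime_pow Nat.prime_three).1 this
      exact ⟨k, hk⟩))
    rw [this]
    exact if_neg fun hc => hx.1 ((jj_iff x).1 ((h.cj_iff x).1 hc)).1
  have n3 : classInner (fun g => f0 (ppart 3 g)) (fun g => f0 (ppart 3 g)) =
      3 * classInner (fun g => f0 (ppart 3 g)) (fun _ => 1) := by
    simp only [classInner, Finset.mul_sum]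
    refine Finset.sum_congr rfl fun g _ => ?_
    simp only [f0]
    split_ifs <;> simp [map_ofNat]
    ring
  obtain ⟨n, hn⟩ := H11.exists_int_classInner hgen H11.isGen_one
  have n1 : n = 1 := by
    have p0 := H11.classInner_self_re_nonneg (fun g => f0 (ppart 3 g))
    have p1 : n ≠ 0 := by
      rintro rfl
      rw [hn] at n3
      have := congrFun (H11.classInner_self_eq_zero.1 (n3.trans (by simp))) (φ hs)
      rw [val hs (by decide)] at this
      simp at this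
    rw [n3, hn] at p0
    have p2 : 0 ≤ n := by simpa using p0
    let S : HH → Prop := fun x => x ^ 4 ∈ JJ ∧ x ^ 4 ≠ 1
    have tis : H20.SC.TIS φ S := ⟨h.inj, fun g x hx hg => h.ti hx.1 hx.2 (by
      rw [map_pow, ← conj_pow]; exact pow_mem hg _)⟩
    let θ : HH → ℂ := fun x => ((if x ^ 4 ∈ JJ ∧ x ^ 4 ≠ 1 then 1 else 0 : ℤ) : ℂ)
    have hθ : H20.SC.Sup S θ := ⟨fun x y => by
      simp only [θ, conj_pow, jj_conj, conj_eq_one_iff, Ne], fun x hx => by simp only [θ]; rw [if_neg hx]; simp⟩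
    have i1 : classInner (tis.ind θ) (fun _ => 1) = 37 / 81 := by
      rw [tis.inner_one, classInner, Nat.card_eq_fintype_card, hh_card]
      have := congrArg (Int.cast : ℤ → ℂ) cnt296
      rw [Int.cast_sum] at this
      simp only [map_one, mul_one, θ, this]
      norm_num
    have bd : ∀ g, ‖f0 (ppart 3 g) + 3 * tis.ind θ g‖ ≤ 3 := fun g => by
      by_cases hg : ∃ w, S w ∧ IsConj g (φ w)
      · obtain ⟨w, hw, c⟩ := hg
        obtain ⟨c, e⟩ := isConj_iff.1 c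
        rw [← tis.cl θ g c, e, tis.apply hθ.cl hw]
        have : CJ φ (ppart 3 g) := by
          rw [← CJ.conj c, ← ppart_conj, e]
          have h1 := H20.pPart_mem_zpowers_zpow Nat.prime_three (isPPart_ppart (p := 3) (φ w))
            (n := 4) (by norm_num)
          obtain ⟨x, hx, e⟩ : ppart 3 (φ w) ∈ JJ.map φ :=
            zpowers_le.2 (show φ w ^ (4 : ℤ) ∈ JJ.map φ from ⟨_, hw.1, by
              rw [map_pow]; norm_cast⟩) h1
          rw [← e]; exact (h.cj_iff x).2 hx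
        simp only [f0, θ, if_pos this]
        rw [if_pos hw]; simp
      · rw [tis.eq_zero hθ fun w hw c => hg ⟨w, hw, c⟩]
        simp only [f0]
        split_ifs <;> simp
    have s1 : (n : ℂ) + 3 * (37 / 81) =
        (Nat.card G : ℂ)⁻¹ * ∑ g, (f0 (ppart 3 g) + 3 * tis.ind θ g) := by
      rw [← hn, ← i1]
      simp only [classInner, map_one, mul_one, Finset.sum_add_distrib, ← Finset.mul_sum]
      ring
    have s2 : ‖(n : ℂ) + 3 * (37 / 81)‖ ≤ 3 := by
      rw [s1, norm_mul, norm_inv, Complex.norm_natCast]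
      have c0 : (0 : ℝ) < Nat.card G := by exact_mod_cast Nat.card_pos
      rw [inv_mul_le_iff₀ c0]
      refine (norm_sum_le _ _).trans ((Finset.sum_le_sum fun g _ => bd g).trans ?_)
      simp
    have s3 := (Complex.re_le_norm _).trans s2
    have s4 : (n : ℝ) < 2 := by
      simp at s3
      norm_num at s3
      linarith
    have : n < 2 := by exact_mod_cast s4
    omega
  have t2 : φ ht * φ ht = 1 := by rw [← map_mul, show ht * ht = 1 by decide, map_one]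
  obtain ⟨K, hK, h1, h2⟩ := char_core (a := φ ht) (b := φ ht) hgen (by rw [n3, hn, n1]; simp)
    (by rw [hn, n1]; simp) (reg 1 (by simp)) (reg _ t2) (reg _ t2) fun x => by
      refine if_pos ?_
      by_contra hc
      have p2 : x * φ ht * x⁻¹ * (x * φ ht * x⁻¹) = 1 := by rw [conj_mul, t2]; simp
      have hu := isPPart_ppart (p := 3) (x * φ ht * x⁻¹ * φ ht)
      obtain ⟨k, hk⟩ := H20.pPart_isPElt hu
      exact h.inv_not p2 (H20.pPart_unique Nat.prime_three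
        (H9.left_inverts_mul p2 t2 ▸ H20.pPart_conj hu _) (H20.pPart_inv hu))
        ⟨k, by rw [← hk, pow_orderOf_eq_one]⟩ hc x rfl
  refine ⟨K, hK, h1.elim id id, fun x hx => ?_⟩
  by_contra hc
  obtain ⟨q, hq⟩ := d3_comm _ hc
  have h3 := h2 (φ (x * (q * x⁻¹ * q⁻¹))) (by
    rw [map_mul, map_mul, map_mul, map_inv, map_inv]
    exact mul_mem hx (hK.conj_mem _ (inv_mem hx) _))
  rw [val _ (by simpa only [map_mul, map_inv] using hq)] at h3
  simp at h3

theorem top : φ.range = ⊤ := by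
  obtain ⟨K, hK, h1, h2⟩ := h.exists_normal
  have cj : ∀ x y : HH, φ x ∈ K → φ (y * x * y⁻¹) ∈ K := fun x y hx => by
    rw [map_mul, map_mul, map_inv]; exact hK.conj_mem _ hx _
  have aK : φ ha ∈ K := by
    rw [show ha = ht * (ha * ht * ha⁻¹) by decide, map_mul]
    exact mul_mem h1 (cj _ _ h1)
  have hle : ∀ w, φ (emb w) ∈ K := fun w => by
    obtain ⟨i, j, k, a, b, rfl⟩ := H20.T27.gen_W w
    obtain ⟨e0, e1, e2, e3, e4⟩ := emb_gens
    have bK : φ hb ∈ K := by rw [show hb = hs * ha * hs⁻¹ by decide]; exact cj _ _ aK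
    have cK : φ hc ∈ K := by rw [show hc = hs * hb * hs⁻¹ by decide]; exact cj _ _ bK
    have tK : φ (hs⁻¹ * ht * hs) ∈ K := by simpa using cj _ hs⁻¹ h1
    simp only [map_mul emb, map_pow emb, e0, e1, e2, e3, e4]
    rw [map_mul, map_mul, map_mul, map_mul, map_pow, map_pow, map_pow, map_pow, map_pow]
    exact mul_mem (mul_mem (mul_mem (mul_mem (pow_mem aK _) (pow_mem bK _)) (pow_mem cK _))
      (pow_mem h1 _)) (pow_mem tK _)
  let f : H20.T27.W →* K := (φ.comp emb).codRestrict K hle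
  have := Fintype.ofFinite K
  have hyp : H20.T27.Hyp f := ⟨fun a b e => emb_inj (h.inj (congrArg Subtype.val e)),
    fun g w w1 w3 ⟨v, hv⟩ => by
      obtain ⟨x, hx⟩ := h.ti (x := emb w) (g := g) ((jj_iff _).2 ⟨rfl, by rw [← map_pow, w3, map_one]⟩)
        (fun e => w1 (emb_inj (e.trans (map_one emb).symm))) ⟨emb v, congrArg Subtype.val hv⟩
      obtain ⟨w', rfl⟩ := emb_surj x (h2 x (hx ▸ g.2))
      exact ⟨w', Subtype.ext hx⟩⟩
  refine eq_top_iff.2 fun g _ => h.ti (x := ha) (by decide) (by decide) ?_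
  obtain ⟨w, hw⟩ := hyp.top.ge (mem_top ⟨_, hK.conj_mem _ aK g⟩)
  exact ⟨emb w, congrArg Subtype.val hw⟩

end M4

end Cfsg.Agent.H93.Hay
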