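import Cfsg.Agent.H93.LTDefs

/-! The second level of interfaces for `EEStmt`, `HHStmt`, `XXStmt`, `TQStmt`
(`stubs/notes/h93_lt2.md`). -/

set_option autoImplicit false

namespace Cfsg.Agent.H93.LT

open Subgroup Cfsg.Agent.H85

universe u

/-- the odd part of the centraliser of a `2`-group over `T₀` -/
def O1Stmt : Prop :=
  ∀ (G : Type u) [Group G] [Finite G] (h : Hyp G) (Q : Subgroup G), IsPGroup 2 Q → h.T0 ≤ Q →
    Q ≤ normalizer (h.T0 : Set G) → h.T ≤ normalizer (Q : Set G) →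
    ∃ O : Subgroup G, Odd (Nat.card O) ∧ O ≤ centralizer (Q : Set G) ∧
      normalizer (Q : Set G) ≤ normalizer (O : Set G) ∧
      (∀ c ∈ centralizer (Q : Set G), ∃ u ∈ Q, ∃ o ∈ O, c = u * o) ∧
      ∀ c ∈ centralizer ({h.t} : Set G), c ∈ normalizer (Q : Set G) →
        c ∈ normalizer (h.T0 : Set G) → ∃ u ∈ h.T, ∃ o ∈ O, c = u * o

namespace TT

variable {G : Type u} [Group G] (h : TT G)

def T1 : Subgroup G := closure {h.t, h.f, h.a, h.b, h.x, h.y}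
def ZU : Subgroup G := closure {h.z, h.f, h.x, h.y}
def K1 : Subgroup G := closure {h.z, h.f, h.x, h.y, h.a, h.m}
def K2 : Subgroup G := closure {h.z, h.f, h.x, h.y, h.b, h.n}
def U : Subgroup G := closure {h.z, h.f, h.x, h.y, h.a, h.b, h.m, h.n}
def U0 : Subgroup G := closure {h.a, h.b, h.m, h.n}
def T2 : Subgroup G := closure {h.z, h.f, h.x, h.y, h.a, h.b, h.m, h.n, h.t}
def T3 : Subgroup G := closure {h.z, h.f, h.x, h.y, h.a, h.b, h.m, h.n, h.t, h.g}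
/-- `R = K⟨t⟩` in type H -/
def R : Subgroup G := closure {h.z, h.f, h.a, h.x, h.y, h.m, h.t}

end TT

/-! ### Type EE -/

/-- normal form when `g ≠ 1` -/
structure EN (G : Type u) [Group G] extends EE G where
  g1 : g ≠ 1
  wx' : w = x
  ζ : m * n * m * n = x ∨ m * n * m * n = x * z
  gg' : (g = e ∧ e * e = 1 ∧ (y ≠ 1 → cn y e = x * y)) ∨
    (y = 1 ∧ e = 1 ∧ (g * g = x ∨ g * g = x * z))

/-- large elementary subgroups of `S` lie in `U` -/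
def TT.Big {G : Type u} [Group G] (h : TT G) (S : Subgroup G) : Prop :=
  ∀ A : Subgroup G, A ≤ S → EA A → Nat.card h.K1 ≤ Nat.card A → A ≤ h.U

/-- `S = T₃⟨k⟩` with `S / U ≅ D₈`; `U₀ = ⟨a m, b n⟩ × ⟨m, n⟩ = D₈ × D₈` -/
structure E4 (G : Type u) [Group G] extends EN G where
  k : G
  hD : m * n * m * n = x
  ge : g = e
  kU : k ∈ normalizer (toTT.U : Set G)
  kk : k * k ∈ toTT.U
  tk : (e * t)⁻¹ * cn t k ∈ toTT.U
  ek : e⁻¹ * cn e k ∈ toTT.U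
  p1 : (a * m)⁻¹ * cn (a * m) k ∈ toTT.ZU
  p2 : (b * n)⁻¹ * cn (b * n) k ∈ toTT.ZU
  q1 : n⁻¹ * cn m k ∈ toTT.ZU
  q2 : m⁻¹ * cn n k ∈ toTT.ZU
  sylS : IsSyl 2 (toTT.T3 ⊔ zpowers k) ⊤
  bigS : toTT.Big (toTT.T3 ⊔ zpowers k)

structure E5 (G : Type u) [Group G] extends E4 G where
  p1' : cn (a * m) k = a * m ∨ cn (a * m) k = a * m * (z * x)
  p2' : cn (b * n) k = b * n ∨ cn (b * n) k = b * n * (z * x)
  q1' : cn m k = n ∨ cn m k = n * x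
  q2' : cn n k = m ∨ cn n k = m * x
  zk : Commute z k
  xk : Commute x k
  fk : cn f k = f * x
  yk : cn y k = y ∨ cn y k = y * x

/-- the basic facts on `U` -/
def EUStmt : Prop :=
  ∀ (G : Type u) [Group G] [Finite G] (h : EE G),
    (∀ u ∈ h.U, ¬ IsConj h.t u) ∧
    (∀ u ∈ h.U, (h.t * u) * (h.t * u) = 1 → ∃ v ∈ h.U, cn h.t v = h.t * u ∨
      (h.y = 1 ∧ cn (h.t * h.f) v = h.t * u)) ∧
    ((h.y = 1 ∧ Nat.card h.K1 = 32 ∧ Nat.card h.U = 128) ∨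
      (h.y ≠ 1 ∧ Nat.card h.K1 = 64 ∧ Nat.card h.U = 256)) ∧
    IsPGroup 2 h.T3 ∧ h.T3 ≤ normalizer (h.U : Set G) ∧ h.Big h.T2 ∧
    h.U ⊓ centralizer (h.U : Set G) = h.ZU ∧ h.T ≤ h.T3

def EE1Stmt : Prop :=
  ∀ (G : Type u) [Group G] [Finite G] (h : EE G), h.g = 1 → h.y ≠ 1 ∧ Concl h.X h.T h.t

def EE2Stmt : Prop :=
  ∀ (G : Type u) [Group G] [Finite G] (h : EE G), h.g ≠ 1 → Nonempty (EN G)

def EE3Stmt : Prop :=
  ∀ (G : Type u) [Group G] [Finite G] (h : EN G),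
    (IsSyl 2 h.T3 ⊤ ∧ h.Big h.T3) ∨ Nonempty (E4 G)

def EE4Stmt : Prop :=
  ∀ (G : Type u) [Group G] [Finite G] (h : EN G), IsSyl 2 h.T3 ⊤ → h.Big h.T3 → False

def EE5Stmt : Prop := ∀ (G : Type u) [Group G] [Finite G], E4 G → Nonempty (E5 G)

def EE6Stmt : Prop := ∀ (G : Type u) [Group G] [Finite G], E5 G → False

theorem ee_of (h1 : EE1Stmt.{u}) (h2 : EE2Stmt.{u}) (h3 : EE3Stmt.{u}) (h4 : EE4Stmt.{u})
    (h5 : EE5Stmt.{u}) (h6 : EE6Stmt.{u}) : EEStmt.{u} := by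
  intro G _ _ h
  by_cases hg : h.g = 1
  · exact h1 G h hg
  · obtain ⟨k⟩ := h2 G h hg
    rcases h3 G k with ⟨a, b⟩ | ⟨⟨l⟩⟩
    · exact (h4 G k a b).elim
    · obtain ⟨l'⟩ := h5 G l
      exact (h6 G l').elim

/-! ### Type HH -/

namespace TT

variable {G : Type u} [Group G] (h : TT G)

open Classical in
/-- `y t`, or `1` if `y = 1` -/
noncomputable def κ : G := if h.y = 1 then 1 else h.y * h.t

/-- `K = 4 × 4 × 2` or `4 × 4 × 4` -/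
noncomputable def K : Subgroup G := closure {h.z, h.f, h.a, h.x * h.t, h.m, h.κ}

end TT

/-- elements of `N(R)` fixing the point `t W₁` -/
def SPStmt : Prop :=
  ∀ (G : Type u) [Group G] [Finite G] (h : HH G), ∀ c ∈ normalizer (h.R : Set G),
    h.t⁻¹ * cn h.t c ∈ h.W1 →
    ∃ k ∈ h.K, ∃ v ∈ closure ({h.b, h.r} : Set G), ∀ u ∈ h.E1, cn u (c * k) = cn u v

structure HN (G : Type u) [Group G] extends HH G where
  alt2 : (g = e ∧ e ≠ 1 ∧ e * e = 1 ∧ cn x e = x ∧ (y ≠ 1 → cn y e = x * y * t)) ∨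
    (y = 1 ∧ e = 1 ∧ g ≠ 1 ∧ (cn x g = x * f ∨ cn x g = x * f * z))

/-- `S₂ = R⟨b, p⟩`; `k = x t` -/
structure H2 (G : Type u) [Group G] extends HH G where
  p : G
  ge : g = e
  e1 : e ≠ 1
  ye : y ≠ 1 → cn y e = x * y * t
  pz : Commute p z
  pa : Commute p a
  pb : Commute p b
  pk : Commute p (x * t)
  fp : cn f p = f * z
  tp : cn t p = t * (x * t)
  mp : cn m p = m ∨ cn m p = m * z
  κp : y ≠ 1 → cn (y * t) p = (y * t)⁻¹ * (x * t)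
  pp : p * p = (x * t)⁻¹

/-- `S = R⟨b, p, q⟩`; `ρ` acts on `R` like `r` -/
structure H3 (G : Type u) [Group G] extends H2 G where
  q : G
  ρ : G
  qz : Commute q z
  qa : Commute q a
  qm : Commute q m
  fq : cn f q = f * a
  tq : cn t q = t * m
  κq : y ≠ 1 → cn (y * t) q = (y * t)⁻¹ * m
  qq : q * q = m⁻¹
  var : (y = 1 ∧ cn m p = m ∧ cn (x * t) q = x * t ∧
      ((cn p q = p ∧ cn b q = x * t * m * b * p) ∨
        (cn p q = z * a * p ∧ cn b q = z * a * f * (x * t) * m * b * p))) ∨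
    (cn m p = m * z ∧ cn (x * t) q = x * t * a ∧
      ((cn p q = x * t * m * p ∧ cn b q = z * a * t * b * p) ∨
        (cn p q = z * a * (x * t) * m * p ∧ cn b q = f * t * b * p)))
  ρR : ∀ u ∈ toTT.R, cn u ρ = cn u r
  ρN : ρ ∈ normalizer ((toTT.R ⊔ closure {p, q} : Subgroup G) : Set G)
  pρ : cn p ρ = q ∨ cn p ρ = q * a

namespace H3

variable {G : Type u} [Group G] (h : H3 G)

def N2 : Subgroup G := h.R ⊔ closure {h.p, h.q}
def S : Subgroup G := h.R ⊔ closure {h.b, h.p, h.q}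
def K00 : Subgroup G := closure {h.z, h.f, h.a, h.x * h.t, h.m}
def B0 : Subgroup G := closure {h.z, h.f, h.a, h.x * h.t, h.m, h.y, h.p * h.t, h.q * h.t}
def S0 : Subgroup G := h.B0 ⊔ zpowers h.b

/-- `γ ∈ C_X(V) ∩ N(B₀)` -/
def Gam (γ : G) : Prop :=
  γ ∈ h.X ∧ Commute γ h.z ∧ Commute γ h.a ∧ γ ∈ normalizer (h.B0 : Set G)

end H3

structure H4 (G : Type u) [Group G] extends H3 G where
  y1 : y ≠ 1
  tX : t ∉ X
  sylS : IsSyl 2 toH3.S ⊤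
  syl0 : IsSyl 2 toH3.S0 X

def HAStmt : Prop := ∀ (G : Type u) [Group G] [Finite G], HH G → Nonempty (HN G)

def HBStmt : Prop := ∀ (G : Type u) [Group G] [Finite G], HN G → Nonempty (H2 G)

def HCStmt : Prop := ∀ (G : Type u) [Group G] [Finite G], H2 G → Nonempty (H3 G)

/-- `S` is a Sylow subgroup, `K` is weakly closed in `S`, `N(K)` normalises `V₁` -/
def HSStmt : Prop :=
  ∀ (G : Type u) [Group G] [Finite G] (h : H3 G), IsSyl 2 h.S ⊤ ∧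
    ∀ c : G, (∀ u ∈ h.K, cn u c ∈ h.S) → h.f⁻¹ * cn h.f c ∈ h.V1

def HDStmt : Prop := ∀ (G : Type u) [Group G] [Finite G] (h : H3 G), h.y = 1 → False

def HEStmt : Prop := ∀ (G : Type u) [Group G] [Finite G] (h : H3 G), h.y ≠ 1 → Nonempty (H4 G)

/-- fusion of `f` in `X` is seen in `C_X(V) ∩ N(B₀)` -/
def HF1Stmt : Prop :=
  ∀ (G : Type u) [Group G] [Finite G] (h : H4 G),
    (∃ γ, h.Gam γ ∧ h.f⁻¹ * cn h.f γ ∉ h.V1) ∧
    (cn h.p h.q = h.x * h.t * h.m * h.p → IsConj h.f h.y →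
      ∃ γ, h.Gam γ ∧ (h.y * (h.x * h.t))⁻¹ * cn h.f γ ∈ h.V1)

/-- type B: `B₀ = D₈ ∘ D₈ ∘ D₈` over `V` -/
def HF2Stmt : Prop :=
  ∀ (G : Type u) [Group G] [Finite G] (h : H4 G), cn h.p h.q = h.z * h.a * (h.x * h.t) * h.m * h.p →
    ∀ γ, h.Gam γ → h.f⁻¹ * cn h.f γ ∈ h.V1

/-- type A: `B₀ = Q₈ ∘ Q₈ ∘ Q₈` over `V` -/
def HF3Stmt : Prop :=
  ∀ (G : Type u) [Group G] [Finite G] (h : H4 G), cn h.p h.q = h.x * h.t * h.m * h.p →
    (∃ γ, h.Gam γ ∧ h.f⁻¹ * cn h.f γ ∉ h.V1) →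
    (IsConj h.f h.y → ∃ γ, h.Gam γ ∧ (h.y * (h.x * h.t))⁻¹ * cn h.f γ ∈ h.V1) → False

theorem hh_of (ha : HAStmt.{u}) (hb : HBStmt.{u}) (hc : HCStmt.{u}) (hd : HDStmt.{u})
    (he : HEStmt.{u}) (h1 : HF1Stmt.{u}) (h2 : HF2Stmt.{u}) (h3 : HF3Stmt.{u}) : HHStmt.{u} := by
  intro G _ _ h
  obtain ⟨k⟩ := ha G h
  obtain ⟨k2⟩ := hb G k
  obtain ⟨k3⟩ := hc G k2
  by_cases hy : k3.y = 1
  · exact hd G k3 hy
  obtain ⟨k4⟩ := he G k3 hy
  obtain ⟨⟨γ, a, b⟩, c⟩ := h1 G k4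
  rcases k4.var with ⟨h0, -⟩ | ⟨-, -, ⟨h0, -⟩ | ⟨h0, -⟩⟩
  · exact k4.y1 h0
  · exact h3 G k4 h0 ⟨γ, a, b⟩ (c h0)
  · exact b (h2 G k4 h0 γ a)

/-! ### Type XX -/

/-- `S = T₁⟨m, c⟩` of order `512` -/
structure XS (G : Type u) [Group G] extends XX G where
  c : G
  e1 : e ≠ 1
  cz : Commute c z
  cf : Commute c f
  var : (e * e = 1 ∧ cn b m = b * Y ∧ c * c = 1 ∧ cn a c = Y ∧ cn b c = y ∧
      cn t c = z * a * b * t * y * Y ∧ cn y c = b ∧ cn Y c = a ∧ cn m c = m) ∨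
    (e * e = 1 ∧ cn b m = f * b * Y ∧ c * c = z * f * t * y * Y ∧ cn a c = z * Y ∧
      cn b c = f * y ∧ cn t c = z * f * a * b * t * y * Y ∧ cn y c = z * b ∧
      cn Y c = z * f * a ∧ cn m c = z * f * t * y * Y * m) ∨
    (e * e = t ∧ cn b m = b * Y ∧ c * c = t * y * Y ∧ cn a c = z * f * Y ∧ cn b c = z * f * y ∧
      cn t c = a * b * t * y * Y ∧ cn y c = b ∧ cn Y c = z * a ∧ cn m c = z * a * Y * m) ∨
    (e * e = t ∧ cn b m = f * b * Y ∧ c * c = 1 ∧ cn a c = f * Y ∧ cn b c = z * y ∧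
      cn t c = f * a * b * t * y * Y ∧ cn y c = z * b ∧ cn Y c = f * a ∧
      cn m c = f * a * t * y * m)

def XS.S {G : Type u} [Group G] (h : XS G) : Subgroup G :=
  closure {h.z, h.f, h.a, h.b, h.t, h.y, h.Y, h.m, h.c}

def XX1Stmt : Prop := ∀ (G : Type u) [Group G] [Finite G] (h : XX G), h.t ∈ h.X

def XX2Stmt : Prop := ∀ (G : Type u) [Group G] [Finite G] (h : XX G), h.t ∈ h.X → h.e ≠ 1

def XX3Stmt : Prop :=
  ∀ (G : Type u) [Group G] [Finite G] (h : XX G), h.e ≠ 1 → ∃ k : XS G, k.toXX = h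

def XSylStmt : Prop := ∀ (G : Type u) [Group G] [Finite G] (h : XS G), IsSyl 2 h.S ⊤

/-- in type X an `E₁₆` through a conjugate of `t` has only one translation -/
def TRLStmt : Prop :=
  ∀ (G : Type u) [Group G] [Finite G] (h : XX G) (E : Subgroup G) (u : G), EA E →
    Nat.card E = 16 → u ∈ E → IsConj h.t u → ∃ W : Subgroup G, W ≤ E ∧ Nat.card W = 8 ∧
      (∀ v ∈ E, IsConj h.t v ↔ v ∉ W) ∧
      ∀ k ∈ centralizer (W : Set G), ∀ l ∈ centralizer (W : Set G), u⁻¹ * cn u k ∈ W →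
        u⁻¹ * cn u l ∈ W → cn u k = u ∨ cn u l = u ∨ cn u k = cn u l

/-- the three models that do not occur -/
def XX4Stmt : Prop :=
  ∀ (G : Type u) [Group G] [Finite G] (h : XS G), h.t ∈ h.X → IsSyl 2 h.S ⊤ →
    h.c * h.c = h.z * h.f * h.t * h.y * h.Y ∧ h.e * h.e = 1

def XX5Stmt : Prop :=
  ∀ (G : Type u) [Group G] [Finite G] (h : XS G), h.t ∈ h.X → IsSyl 2 h.S ⊤ →
    h.c * h.c = h.z * h.f * h.t * h.y * h.Y → h.e * h.e = 1 → Concl h.X h.T h.t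

theorem xx_of (h1 : XX1Stmt.{u}) (h2 : XX2Stmt.{u}) (h3 : XX3Stmt.{u}) (hs : XSylStmt.{u})
    (h4 : XX4Stmt.{u}) (h5 : XX5Stmt.{u}) : XXStmt.{u} := by
  intro G _ _ h
  have ht := h1 G h
  obtain ⟨k, rfl⟩ := h3 G h (h2 G h ht)
  obtain ⟨a, b⟩ := h4 G k ht (hs G k)
  exact h5 G k ht (hs G k) a b

/-! ### Type TQ -/

namespace TQ0

variable {G : Type u} [Group G] (h : TQ0 G)

def c : G := h.m * h.n * h.m * h.n
def T2 : Subgroup G := closure {h.z, h.f, h.a, h.b, h.t, h.y, h.Y, h.m, h.n}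

end TQ0

structure TQR (G : Type u) [Group G] extends TQ G where
  k : G
  kz : Commute k z
  kf : Commute k f
  ka : Commute k a
  ky : Commute k y
  kN : k ∈ normalizer (toTQ0.T2 : Set G)
  kk : k * k ∈ toTQ0.T2
  tk : cn t k = t * y * m

structure TQ3 (G : Type u) [Group G] extends TQR G where
  kX : k ∈ X
  var : ((m * n) ^ 4 = 1 ∧ cn b k = a * b * t * y * Y * toTQ0.c ∧ cn Y k = z * Y * m ∧
      cn n k = n ∧ ((cn m k = a * m ∧ k * k = y) ∨ (cn m k = f * a * m ∧ k * k = 1))) ∨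
    ((m * n) ^ 4 = z * f ∧ cn b k = f * a * b * toTQ0.c ∧ cn Y k = Y * m ∧
      cn n k = a * t * Y * toTQ0.c * n ∧
      ((cn m k = a * m ∧ k * k = z * f * a * y) ∨ (cn m k = f * a * m ∧ k * k = f * a)))

def TQ1Stmt : Prop :=
  ∀ (G : Type u) [Group G] [Finite G] (h : TQ G), ∃ k : TQR G, k.toTQ = h

def TQ2Stmt : Prop :=
  ∀ (G : Type u) [Group G] [Finite G] (h : TQR G), ∃ k : TQ3 G, k.toTQ = h.toTQ

def TQ3Stmt : Prop :=
  ∀ (G : Type u) [Group G] [Finite G] (h : TQ3 G), (h.m * h.n) ^ 4 = 1 → Concl h.X h.T h.t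

def TQ4Stmt : Prop :=
  ∀ (G : Type u) [Group G] [Finite G] (h : TQ3 G), (h.m * h.n) ^ 4 = h.z * h.f →
    Concl h.X h.T h.t

theorem tq_of (h1 : TQ1Stmt.{u}) (h2 : TQ2Stmt.{u}) (h3 : TQ3Stmt.{u}) (h4 : TQ4Stmt.{u}) :
    TQStmt.{u} := by
  intro G _ _ h
  obtain ⟨k, rfl⟩ := h1 G h
  obtain ⟨l, e⟩ := h2 G k
  rw [← e]
  rcases l.mn with a | a
  exacts [h3 G l a, h4 G l a]

end Cfsg.Agent.H93.LT
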