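import Cfsg.Agent.H51.GMIso
import Cfsg.Agent.H67.GmRed
import Cfsg.Agent.H81.GMFin
import Cfsg.Agent.H27.GmZ5
import Cfsg.Agent.H10.GmZl
import Cfsg.Agent.H92.GMCl
import Cfsg.Agent.H70.GmCqbx
import Cfsg.Agent.H96.GmP1
import Cfsg.Agent.H65.GmC5
import Cfsg.Agent.H64.GmGD5
import Cfsg.Agent.H40.GMCu
import Cfsg.Agent.H44.GmZl3
import Cfsg.Agent.H84.GmCz
import Cfsg.Agent.H16.GmTwoZ
import Cfsg.Agent.H66.GmE5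
import Cfsg.Agent.H68.GmAut5
import Cfsg.Agent.H5.GmEz
import Cfsg.Agent.H85.GmQ5
import Cfsg.Agent.H2.GmN5
import Cfsg.Agent.H7.GmP0
import Cfsg.Agent.H57.GmTwin
import Cfsg.Agent.H14.GmNsc
import Cfsg.Agent.H33.GmBenZ
import Cfsg.Agent.H47.GmBenL
import Cfsg.Agent.H9.GmBenU
import Cfsg.Agent.H19.NzEnd
import Cfsg.Agent.H93.GMM5
import Cfsg.Agent.H42.GmBU
import Cfsg.Agent.H82.GmWu
import Cfsg.Agent.H29.GmWl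
import Cfsg.Agent.H67.GmLw
import Cfsg.Agent.H62.GmLW0
import Cfsg.Agent.H57.GmHalfL
import Cfsg.Agent.H7.GmMem
import Cfsg.Agent.H9.GmLC3d
import Cfsg.Agent.H61.GmLC3a
import Cfsg.Agent.H28.GmKit2
import Cfsg.Agent.H51.GMLd2
import Cfsg.Agent.H66.GmSwap
import Cfsg.Agent.H34.GmBL
import Cfsg.Agent.H39.GmMx
import Cfsg.Agent.H92.GMDich
import Cfsg.Agent.H56.GmEl3
import Cfsg.Agent.H85.GmC2c
import Cfsg.Agent.H59.GMC2d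
import Cfsg.Agent.H81.GmC2b
import Cfsg.Agent.H37.GmVV1
import Cfsg.Agent.H24.GmNC0
import Cfsg.Agent.H27.GmLkit
import Cfsg.Agent.H64.GmLD1
import Cfsg.Agent.H70.GmLc3b
import Cfsg.Agent.H14.GmLSem
import Cfsg.Agent.H72.GmLFB
import Cfsg.Agent.H71.GmBt
import Cfsg.Agent.H38.GmPair
import Cfsg.Agent.H36.GmNE
import Cfsg.Agent.H31.GmAlpha
import Cfsg.Agent.H15.GmHalfU
import Cfsg.Agent.H5.GmEl2
import Cfsg.Agent.H1.GmEl4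
import Cfsg.Agent.H94.GmC2
import Cfsg.Agent.H13.GmConj
import Cfsg.Agent.Lead.GmA5f
import Cfsg.Agent.H20.GmNcz
import Cfsg.Agent.H33.GmTrick
import Cfsg.Agent.H2.GmLEnd
import Cfsg.Agent.H87.GmLxc
import Cfsg.Agent.H99.GmLC2
import Cfsg.Agent.H23.GmDX
import Cfsg.Agent.H95.GmLc1
import Cfsg.Agent.H79.GmLc3c

/-! Project GM: the pieces put together. -/

set_option autoImplicit false

namespace Cfsg.Agent.H93.GMMain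

open Cfsg.Agent.H93.GM

universe u

theorem ben : BenStmt.{u} := H33.GmBenZ.ben H47.GmBenL.benL H9.GmBenU.benU
theorem nsc : NSCStmt.{u} := H14.GmNsc.nsc ben
theorem p0 : P0Stmt.{u} := H7.GmP0.p0
theorem tw : TwinStmt.{u} := H57.GmTwin.twin
theorem vd : VDStmt.{u} := H13.GmConj.vd
theorem cj : ConjStmt.{u} := H13.GmConj.conj
theorem tk : TrickStmt.{u} := H33.GmTrick.trick
theorem mem : MemStmt.{u} := H7.GmMem.mem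
theorem al : AlphaStmt.{u} := H31.GmAlpha.alpha tw vd
theorem di : DichStmt.{u} := H92.GMDich.dich tw vd
theorem ne : NEStmt.{u} := H36.GmNE.ne di (H57.GmHalfL.halfL al vd) (H15.GmHalfU.halfU al)
theorem e4 : EL4Stmt.{u} := H1.GmEl4.el4 mem H5.GmEl2.el2 (H56.GmEl3.el3 mem H5.GmEl2.el2)

theorem c2 (ca : C2aStmt.{u}) : C2Stmt.{u} :=
  H94.GmC2.c2 cj ca (H81.GmC2b.c2b cj vd tk ca) (H85.GmC2c.c2c cj vd tk ca)
    (H59.GMC2d.c2d cj vd tk ca)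

theorem vv (v2 : VV2Stmt.{u}) : VVStmt.{u} :=
  H33.GmTrick.vv (H37.GmVV1.vv1 tk) v2 H66.GmSwap.swap nsc

theorem cl : CLStmt.{u} :=
  H92.GMCl.cl (xmain_of (H87.GmLxc.lxc H33.GmBenZ.benZ H9.GmBenU.benU) H70.GmCqbx.cqbx
    (H96.GmP1.p1ex H33.GmBenZ.benZ))

theorem le : AllE.{u} fun {_ _} _ _ C _ => ∀ E, ¬ Sm E C.A :=
  le_of H27.GmLkit.lkit H28.GmK.lkit2 (H67.GmLw.lw H62.GmLW0.lw0) H14.GmLSem.lSem H64.GmLD1.ld1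
    (H51.GMLd2.ld2 tw vd) H72.GmLFB.lfb Lc1.lc1 H99.GmLC2.lc2 H61.GmLC3a.lc3a H70.GmLc3b.lc3b
    H79.GmLc3c.lc3c H9.GmLC3d.lc3d (H2GmLEnd.lEnd nsc)

theorem bt (ca : C2aStmt.{u}) (v2 : VV2Stmt.{u}) :
    AllB.{u} fun C => C.Ab ∨ C.NA → ∀ E, Sm E C.A → ¬ Cyc C.A → Nonempty (BT C) :=
  bt_of vd (H38.GmPair.pair p0 vd) di ne (H1.GmEl4.el1 mem) e4 (c2 ca) (vv v2) (H71.GmBt.bt mem)

theorem nl (ca : C2aStmt.{u}) (v2 : VV2Stmt.{u}) : NLStmt.{u} :=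
  nl_of H34.GmBL.bl (bt ca v2) H29.GmWl.wl H23.GmDX.dx le

theorem nu (ca : C2aStmt.{u}) (v2 : VV2Stmt.{u}) : NUStmt.{u} :=
  nu_of H42.GmBU.bu (bt ca v2) H82.GmWu.wu H23.GmDX.dx H39.GmMx.mx GMM5.m5x

theorem nz (v2 : VV2Stmt.{u}) : NZStmt.{u} :=
  H19.Nz.nz nsc (H20.GmNcz.ncz H24.GmNC0.nc0 (vv v2))

theorem n5 (c : C25Stmt.{u}) (v2 : VV2Stmt.{u}) : N5Stmt.{u} :=
  H2Gm.n5 (H85.GmQ5.q5 p0 tw) (nc5_of c (vv v2))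

theorem cu : CUStmt.{u} := H40.GMCu.cu H44.GmZl3.zl3 H10.GmZl.zl nsc
theorem cz : CZStmt.{u} := H84.GmCz.cz nsc H10.GmZl.zl H16.GmTwoZ.twoZ
theorem c5 : C5Stmt.{u} := H65.GmC5.c5 H64.GmGD5.gd5
theorem e5 : E5Stmt.{u} := H66.GmE5.e5 p0 tw H68.GmAut5.aut5
theorem ez : EZStmt.{u} := H5.GmEz.ez p0 tw

end Cfsg.Agent.H93.GMMain
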