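import Cfsg.Agent.H93.LTDefs

/-! The first half of `Kit` (`stubs/notes/h93_lt.md`, section KIT). -/

set_option autoImplicit false

namespace Cfsg.Agent.H93.LT

open Subgroup Cfsg.Agent.H85

universe u

/-- the fields of `Kit` that need only the model of `T`, Sylow's theorem and transfer -/
structure KitA {G : Type u} [Group G] (h : Hyp G) : Prop where
  aX : h.a ∈ h.X ∧ h.b ∈ h.X ∧ h.z ∈ h.X
  odX : ∀ x : G, Odd (orderOf x) → x ∈ h.X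
  sqX : ∀ x : G, x * x ∈ h.X
  cmX : ∀ x y : G, x⁻¹ * y⁻¹ * x * y ∈ h.X
  muX : ∀ x y : G, x ∉ h.X → y ∉ h.X → x * y ∈ h.X
  cT0 : Nat.card h.T0 = 32
  cT : (h.e = 1 ∧ h.T = h.T0) ∨ (h.e ≠ 1 ∧ h.e ∉ h.T0 ∧ Nat.card h.T = 64)
  cE : Nat.card h.E1 = 16 ∧ Nat.card h.E2 = 16 ∧ EA h.E1 ∧ EA h.E2
  big : ∀ S : Subgroup G, IsSyl 2 S ⊤ → 256 ≤ Nat.card (S ⊓ h.X : Subgroup G)
  zD : ¬ IsConj h.t h.z
  /-- fusion in `C(t)` -/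
  pi : ∀ c ∈ centralizer ({h.t} : Set G), ∀ u ∈ h.T, cn u c ∈ h.T → u⁻¹ * cn u c ∈ h.D0
  /-- a `2`-subgroup centralising a conjugate of `t` is conjugate into `T` -/
  into : ∀ (u : G) (R : Subgroup G), IsConj h.t u → IsPGroup 2 R → R ≤ centralizer {u} →
    ∃ g : G, cn u g = h.t ∧ ∀ x ∈ R, cn x g ∈ h.T
  j16 : ∀ E : Subgroup G, E ≤ h.T → EA E → 16 ≤ Nat.card E → E = h.E1 ∨ E = h.E2
  /-- climbing -/
  climb : ∀ Q S : Subgroup G, IsPGroup 2 S → h.t ∈ Q → Q < S → S ⊓ centralizer {h.t} ≤ Q →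
    ∃ g ∈ S, g ∉ Q ∧ g ∈ normalizer (Q : Set G) ∧ g * g ∈ Q ∧ ∀ q ∈ Q, cn h.t g ≠ cn h.t q
  /-- transfer in `G` on elements of `X` -/
  trG : ∀ (S N B : Subgroup G) (u : G), IsSyl 2 S ⊤ → N ≤ S →
    (∀ x ∈ S, ∀ y ∈ S, x⁻¹ * y⁻¹ * x * y ∈ N) → u ∈ h.X → u * u = 1 → u ∈ S → u ∈ B →
    IsPGroup 2 B → B ≤ centralizer {u} → (∀ g : G, (∀ x ∈ B, cn x g ∈ S) → u⁻¹ * cn u g ∈ N) →
    u ∈ N
  /-- transfer in `X` -/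
  trX : ∀ (S N B : Subgroup G) (u : G), IsSyl 2 S h.X → N ≤ S →
    (∀ x ∈ S, ∀ y ∈ S, x⁻¹ * y⁻¹ * x * y ∈ N) → u * u = 1 → u ∈ S → u ∈ B → B ≤ h.X →
    IsPGroup 2 B → B ≤ centralizer {u} →
    (∀ g ∈ h.X, (∀ x ∈ B, cn x g ∈ S) → u⁻¹ * cn u g ∈ N) → u ∈ N
  /-- Thompson: no extremal conjugate of `t` in `N`; the kernel of the transfer is `X` -/
  trT : ∀ S N : Subgroup G, IsSyl 2 S ⊤ → N ≤ S → N.relIndex S = 2 →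
    (∀ g : G, (∀ x ∈ h.T, cn x g ∈ S) → cn h.t g ∉ N) → h.t ∉ h.X ∧
      ∀ (u : G) (B : Subgroup G), u * u = 1 → u ∈ B → IsPGroup 2 B → B ≤ centralizer {u} →
        (∀ g : G, (∀ x ∈ B, cn x g ∈ S) → cn u g ∈ N) → u ∈ h.X
  sylX : ∀ S : Subgroup G, IsSyl 2 S ⊤ → IsSyl 2 (S ⊓ h.X) h.X

def KitAStmt : Prop := ∀ (G : Type u) [Group G] [Finite G] (h : Hyp G), KitA h

def KitBStmt : Prop := ∀ (G : Type u) [Group G] [Finite G] (h : Hyp G), KitA h → Kit h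

theorem kit_of (a : KitAStmt.{u}) (b : KitBStmt.{u}) : KitStmt.{u} :=
  fun G _ _ h => b G h (a G h)

end Cfsg.Agent.H93.LT
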