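import Mathlib
import Cfsg.Agent.H3.Fitting
import Cfsg.Agent.H4.Schmidt
import Cfsg.Agent.H84.CoreOf

/-!
Nilpotent subgroups of `GL n F` containing regular unipotent elements.
-/

set_option autoImplicit false

namespace Cfsg.Agent.H93

open Cfsg Subgroup Matrix
open scoped commutatorElement

variable {F : Type*} [Field F] {ι : Type*} [Fintype ι] [DecidableEq ι]

/-- The stabilizer of the line through `v`. -/
def lineStab (v : ι → F) : Subgroup (GL ι F) where
  carrier := {g | ∃ c : F, c ≠ 0 ∧ (g : Matrix ι ι F) *ᵥ v = c • v}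
  one_mem' := ⟨1, one_ne_zero, by simp⟩
  mul_mem' := by
    rintro a b ⟨c, hc, ha⟩ ⟨d, hd, hb⟩
    refine ⟨d * c, mul_ne_zero hd hc, ?_⟩
    rw [Units.val_mul, ← mulVec_mulVec, hb, mulVec_smul, ha, smul_smul]
  inv_mem' := by
    rintro a ⟨c, hc, ha⟩
    refine ⟨c⁻¹, inv_ne_zero hc, ?_⟩
    have : ((a⁻¹ : GL ι F) : Matrix ι ι F) *ᵥ ((a : Matrix ι ι F) *ᵥ v) = v := by
      rw [mulVec_mulVec, ← Units.val_mul, inv_mul_cancel, Units.val_one, one_mulVec]
    rw [ha, mulVec_smul] at this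
    conv_rhs => rw [← this]
    rw [smul_smul, inv_mul_cancel₀ hc, one_smul]

theorem gl_mulVec_eq_zero (g : GL ι F) {v : ι → F} (h : (g : Matrix ι ι F) *ᵥ v = 0) : v = 0 := by
  have : ((g⁻¹ : GL ι F) : Matrix ι ι F) *ᵥ ((g : Matrix ι ι F) *ᵥ v) = v := by
    rw [mulVec_mulVec, ← Units.val_mul, inv_mul_cancel, Units.val_one, one_mulVec]
  rw [← this, h, mulVec_zero]

theorem mem_lineStab {v : ι → F} (hv : v ≠ 0) {g : GL ι F} {c : F}
    (h : (g : Matrix ι ι F) *ᵥ v = c • v) : g ∈ lineStab v := by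
  refine ⟨c, ?_, h⟩
  rintro rfl
  rw [zero_smul] at h
  exact hv (gl_mulVec_eq_zero g h)

theorem lineStab_smul_le (v : ι → F) (c : F) : lineStab v ≤ lineStab (c • v) := by
  rintro g ⟨d, hd, hg⟩
  exact ⟨d, hd, by rw [mulVec_smul, hg, smul_comm]⟩

theorem center_le_lineStab (v : ι → F) (hv : v ≠ 0) : center (GL ι F) ≤ lineStab v := by
  intro g hg
  obtain ⟨c, hc⟩ := GeneralLinearGroup.mem_center_iff_val_mem_range_scalar.mp hg
  refine mem_lineStab hv (c := c) ?_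
  rw [← hc]
  ext i
  simp [mulVec_diagonal]

theorem eq_one_of_pow_char_pow {p k : ℕ} [Fact p.Prime] [CharP F p] {c : F} (h : c ^ p ^ k = 1) :
    c = 1 := by
  have : (c - 1) ^ p ^ k = 0 := by rw [sub_pow_char_pow, h, one_pow, sub_self]
  exact sub_eq_zero.mp (pow_eq_zero_iff (pow_pos (Fact.out : p.Prime).pos k).ne' |>.mp this)

theorem mulVec_eq_of_mem_lineStab {p k : ℕ} [Fact p.Prime] [CharP F p] {x : GL ι F}
    (hx : x ^ p ^ k = 1) {v : ι → F} (hv : v ≠ 0) (h : x ∈ lineStab v) :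
    (x : Matrix ι ι F) *ᵥ v = v := by
  obtain ⟨c, -, hc⟩ := h
  have key : ∀ m : ℕ, ((x ^ m : GL ι F) : Matrix ι ι F) *ᵥ v = c ^ m • v := by
    intro m
    induction m with
    | zero => simp
    | succ m ih => rw [pow_succ, Units.val_mul, ← mulVec_mulVec, hc, mulVec_smul, ih, smul_smul,
        pow_succ']
  have h1 := key (p ^ k)
  rw [hx, Units.val_one, one_mulVec] at h1
  have h2 : c ^ p ^ k = 1 := by
    have : (c ^ p ^ k - 1) • v = 0 := by rw [sub_smul, ← h1, one_smul, sub_self]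
    exact sub_eq_zero.mp ((smul_eq_zero.mp this).resolve_right hv)
  rw [hc, eq_one_of_pow_char_pow h2, one_smul]

theorem exists_unipotent (p : ℕ) [Fact p.Prime] [CharP F p] [Nonempty ι] {N : Matrix ι ι F}
    (hN : IsNilpotent N) : ∃ x : GL ι F, (x : Matrix ι ι F) = 1 + N ∧ (∃ k, x ^ p ^ k = 1) ∧
      x ∈ (SpecialLinearGroup.toGL : SpecialLinearGroup ι F →* GL ι F).range := by
  obtain ⟨m, hm⟩ := hN
  have hp : p.Prime := Fact.out
  have h1 : (1 + N) ^ p ^ m = 1 := by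
    rw [add_pow_char_pow_of_commute _ _ (Commute.one_left N), one_pow,
      pow_eq_zero_of_le (Nat.lt_pow_self hp.one_lt).le hm, add_zero]
  have h2 : (1 + N).det = 1 :=
    eq_one_of_pow_char_pow (p := p) (k := m) (by rw [← det_pow, h1, det_one])
  refine ⟨SpecialLinearGroup.toGL ⟨1 + N, h2⟩, rfl, ⟨m, ?_⟩, ⟨_, rfl⟩⟩
  exact Units.ext (by rw [Units.val_pow_eq_pow_val]; exact h1)

theorem isNilpotent_of_rank {N : Matrix ι ι F} (r : ι → ℕ) (h : ∀ i j, N i j ≠ 0 → r i < r j) :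
    IsNilpotent N := by
  have key : ∀ (k : ℕ) (i j : ι), (N ^ k) i j ≠ 0 → r i + k ≤ r j := by
    intro k
    induction k with
    | zero =>
      intro i j hij
      have : i = j := by
        by_contra hne
        simp [one_apply_ne hne] at hij
      simp [this]
    | succ k ih =>
      intro i j hij
      rw [pow_succ, mul_apply] at hij
      obtain ⟨l, -, hl⟩ := Finset.exists_ne_zero_of_sum_ne_zero hij
      have h1 := ih i l (left_ne_zero_of_mul hl)
      have h2 := h l j (right_ne_zero_of_mul hl)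
      omega
  refine ⟨Finset.univ.sup r + 1, ?_⟩
  ext i j
  by_contra hne
  have h1 := key _ i j hne
  have h2 : r j ≤ Finset.univ.sup r := Finset.le_sup (Finset.mem_univ j)
  omega

variable [Fintype F]

theorem exists_fixed_col {p : ℕ} [Fact p.Prime] [CharP F p] [Nonempty ι] {P : Subgroup (GL ι F)}
    (hP : IsPGroup p P) : ∃ v : ι → F, v ≠ 0 ∧ ∀ g ∈ P, (g : Matrix ι ι F) *ᵥ v = v := by
  letI : MulAction P (ι → F) :=
    { smul := fun g v => ((g : GL ι F) : Matrix ι ι F) *ᵥ v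
      one_smul := fun v => one_mulVec v
      mul_smul := fun a b v => (mulVec_mulVec v _ _).symm }
  have hd : p ∣ Nat.card (ι → F) := by
    rw [Nat.card_fun, Nat.card_eq_fintype_card (α := F)]
    obtain ⟨k, -, hk⟩ := FiniteField.card F p
    rw [hk]
    exact dvd_pow (dvd_pow_self p k.ne_zero) Nat.card_pos.ne'
  obtain ⟨v, hv, hne⟩ := hP.exists_fixed_point_of_prime_dvd_card_of_fixed_point (ι → F) hd
    (a := 0) (fun g => mulVec_zero _)
  exact ⟨v, hne.symm, fun g hg => hv ⟨g, hg⟩⟩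

theorem exists_fixed_row {p : ℕ} [Fact p.Prime] [CharP F p] [Nonempty ι] {P : Subgroup (GL ι F)}
    (hP : IsPGroup p P) : ∃ v : ι → F, v ≠ 0 ∧ ∀ g ∈ P, v ᵥ* (g : Matrix ι ι F) = v := by
  letI : MulAction P (ι → F) :=
    { smul := fun g v => v ᵥ* (((g : GL ι F)⁻¹ : GL ι F) : Matrix ι ι F)
      one_smul := fun v => by
        change v ᵥ* (((1 : GL ι F)⁻¹ : GL ι F) : Matrix ι ι F) = v
        rw [inv_one, Units.val_one, vecMul_one]
      mul_smul := fun a b v => by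
        change v ᵥ* ((((a : GL ι F) * b)⁻¹ : GL ι F) : Matrix ι ι F) =
          (v ᵥ* (((b : GL ι F)⁻¹ : GL ι F) : Matrix ι ι F)) ᵥ*
            (((a : GL ι F)⁻¹ : GL ι F) : Matrix ι ι F)
        rw [_root_.mul_inv_rev, Units.val_mul, vecMul_vecMul] }
  have hd : p ∣ Nat.card (ι → F) := by
    rw [Nat.card_fun, Nat.card_eq_fintype_card (α := F)]
    obtain ⟨k, -, hk⟩ := FiniteField.card F p
    rw [hk]
    exact dvd_pow (dvd_pow_self p k.ne_zero) Nat.card_pos.ne'
  obtain ⟨v, hv, hne⟩ := hP.exists_fixed_point_of_prime_dvd_card_of_fixed_point (ι → F) hd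
    (a := 0) (fun g => zero_vecMul _)
  refine ⟨v, hne.symm, fun g hg => ?_⟩
  have := hv ⟨g⁻¹, inv_mem hg⟩
  change v ᵥ* (((g⁻¹)⁻¹ : GL ι F) : Matrix ι ι F) = v at this
  rwa [inv_inv] at this

theorem mem_pCoreOf_of_isNilpotent {G : Type*} [Group G] [Finite G] {p k : ℕ} [Fact p.Prime]
    {A : Subgroup G} (hA : Group.IsNilpotent A) {x : G} (hxA : x ∈ A) (hx : x ^ p ^ k = 1) :
    x ∈ pCoreOf p A := by
  refine (H84.mem_pCoreOf_iff ⟨x, hxA⟩).mpr (H3.le_pCore_of_le_fitting (P := zpowers ⟨x, hxA⟩)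
    (H8.isPGroup_zpowers_of_pow_eq_one (k := k) (Subtype.ext hx)) ?_ (mem_zpowers _))
  rw [H3.fitting_eq_top_iff.mpr hA]
  exact le_top

theorem le_lineStab_of_isNilpotent {p k : ℕ} [Fact p.Prime] [CharP F p] [Nonempty ι]
    {A : Subgroup (GL ι F)} (hA : Group.IsNilpotent A) {x : GL ι F} (hxA : x ∈ A)
    (hx : x ^ p ^ k = 1) {v : ι → F} (hv : v ≠ 0)
    (hfix : ∀ w : ι → F, (x : Matrix ι ι F) *ᵥ w = w → ∃ c : F, w = c • v) : A ≤ lineStab v := by
  have hxP := mem_pCoreOf_of_isNilpotent hA hxA hx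
  obtain ⟨w, hw, hwP⟩ := exists_fixed_col (H84.isPGroup_pCoreOf p A)
  obtain ⟨c, rfl⟩ := hfix w (hwP x hxP)
  have hc : c ≠ 0 := by rintro rfl; exact hw (zero_smul _ _)
  have hvP : ∀ g ∈ pCoreOf p A, (g : Matrix ι ι F) *ᵥ v = v := by
    intro g hg
    have := hwP g hg
    rw [mulVec_smul] at this
    exact smul_right_injective _ hc this
  intro g hg
  obtain ⟨d, hd⟩ := hfix ((g : Matrix ι ι F) *ᵥ v) (by
    have := hvP _ (H84.conj_mem_of_mem_normalizer' (H84.le_normalizer_pCoreOf p A hg) hxP)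
    conv_rhs => rw [← this]
    rw [mulVec_mulVec, mulVec_mulVec, ← Units.val_mul, ← Units.val_mul]
    congr 2
    group)
  exact mem_lineStab hv hd

end Cfsg.Agent.H93
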