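import Mathlib
import Cfsg.Agent.H93.LinCover

/-!
No nilpotent minimal cover for groups between `SL n F` and `GL n F`, `n ≥ 3`.
-/

set_option autoImplicit false

namespace Cfsg.Agent.H93

open Cfsg Subgroup Matrix
open scoped commutatorElement

variable {F : Type*} [Field F]

/-- A family of subgroups covering `G` from which no member can be dropped, even after
replacing the others by arbitrary proper "subgroups". -/
structure NilCover {Γ : Type*} [Group Γ] (Z G : Subgroup Γ) {κ : Type*} (I : Set κ)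
    (U : κ → Subgroup Γ) : Prop where
  le : ∀ i ∈ I, Z ≤ U i
  le' : ∀ i ∈ I, U i ≤ G
  proper : ∀ i ∈ I, ¬ G ≤ U i
  nil : ∀ i ∈ I, Group.IsNilpotent (U i)
  cover : ∀ g ∈ G, ∃ i ∈ I, g ∈ U i
  min : ∀ i₀ ∈ I, ∀ f : κ → Subgroup Γ, (∀ i ∈ I, i ≠ i₀ → Z ≤ f i ∧ ¬ G ≤ f i) →
    (∀ g ∈ G, ∃ i ∈ I, i ≠ i₀ ∧ g ∈ f i) → False

/-- The regular nilpotent matrix attached to an ordering `σ` of the basis. -/
def regN (F : Type*) [Field F] {n : ℕ} (σ : Equiv.Perm (Fin n)) : Matrix (Fin n) (Fin n) F :=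
  Matrix.of fun i j => if (σ j : ℕ) = σ i + 1 then 1 else 0

theorem regN_isNilpotent {n : ℕ} (σ : Equiv.Perm (Fin n)) : IsNilpotent (regN F σ) := by
  refine isNilpotent_of_rank (fun i => (σ i : ℕ)) ?_
  intro i j h
  simp only [regN, of_apply, ne_eq, ite_eq_right_iff, one_ne_zero, imp_false, not_not] at h
  omega

theorem regN_mulVec {n : ℕ} (σ : Equiv.Perm (Fin n)) (w : Fin n → F) {i j : Fin n}
    (h : (σ j : ℕ) = σ i + 1) : (regN F σ *ᵥ w) i = w j := by
  simp only [mulVec, dotProduct, regN, of_apply]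
  rw [Finset.sum_eq_single j]
  · simp [h]
  · intro k _ hk
    rw [if_neg, zero_mul]
    intro hk'
    exact hk (σ.injective (Fin.ext (by omega)))
  · simp

theorem vecMul_regN {n : ℕ} (σ : Equiv.Perm (Fin n)) (w : Fin n → F) {i j : Fin n}
    (h : (σ j : ℕ) = σ i + 1) : (w ᵥ* regN F σ) j = w i := by
  simp only [vecMul, dotProduct, regN, of_apply]
  rw [Finset.sum_eq_single i]
  · simp [h]
  · intro k _ hk
    rw [if_neg, mul_zero]
    intro hk'
    exact hk (σ.injective (Fin.ext (by omega)))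
  · simp

theorem regN_fix_col {n : ℕ} (σ : Equiv.Perm (Fin n)) {w : Fin n → F}
    (hw : (1 + regN F σ) *ᵥ w = w) (j : Fin n) (hj : (σ j : ℕ) ≠ 0) : w j = 0 := by
  rw [add_mulVec, one_mulVec, add_eq_left] at hw
  have hlt : (σ j : ℕ) - 1 < n := by have := (σ j).2; omega
  rw [← regN_mulVec σ w (i := σ.symm ⟨_, hlt⟩) (j := j) (by simp; omega), hw]
  rfl

theorem regN_fix_row {n : ℕ} (σ : Equiv.Perm (Fin n)) {w : Fin n → F}
    (hw : w ᵥ* (1 + regN F σ) = w) (i : Fin n) (hi : (σ i : ℕ) + 1 ≠ n) : w i = 0 := by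
  rw [vecMul_add, vecMul_one, add_eq_left] at hw
  have hlt : (σ i : ℕ) + 1 < n := by have := (σ i).2; omega
  rw [← vecMul_regN σ w (i := i) (j := σ.symm ⟨_, hlt⟩) (by simp), hw]
  rfl

theorem not_nilCover_three [Fintype F] {m : ℕ} {G : Subgroup (GL (Fin (m + 3)) F)}
    (hG : (SpecialLinearGroup.toGL : SpecialLinearGroup (Fin (m + 3)) F →* _).range ≤ G)
    {κ : Type*} {I : Set κ} {U : κ → Subgroup (GL (Fin (m + 3)) F)}
    (h : NilCover (center _) G I U) : False := by
  classical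
  obtain ⟨p, hchar⟩ := CharP.exists F
  haveI : Fact p.Prime := ⟨CharP.char_is_prime F p⟩
  set a : Fin (m + 3) := ⟨m + 1, by omega⟩ with ha
  set b : Fin (m + 3) := ⟨m + 2, by omega⟩ with hb
  obtain ⟨x, hx, ⟨k, hxk⟩, hxS⟩ := exists_unipotent p (regN_isNilpotent (F := F)
    (1 : Equiv.Perm (Fin (m + 3))))
  obtain ⟨y, hy, ⟨l, hyl⟩, hyS⟩ := exists_unipotent p (regN_isNilpotent (F := F) (Equiv.swap a b))
  obtain ⟨z, hz, ⟨r, hzr⟩, hzS⟩ := exists_unipotent p (regN_isNilpotent (F := F)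
    (Equiv.swap (0 : Fin (m + 3)) 1))
  set e : Fin (m + 3) → F := Pi.single 0 1 with he
  have he0 : e ≠ 0 := fun h0 => by simpa [he] using congrFun h0 0
  have hline : ∀ w : Fin (m + 3) → F, (∀ j, j ≠ 0 → w j = 0) → ∃ c : F, w = c • e := by
    intro w hw
    refine ⟨w 0, funext fun j => ?_⟩
    by_cases hj : j = 0
    · subst hj; simp [he]
    · simp [he, hj, hw j hj]
  obtain ⟨i, hi, hxi⟩ := h.cover x (hG hxS)
  obtain ⟨j, hj, hyj⟩ := h.cover y (hG hyS)
  have hUi : U i ≤ lineStab e := by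
    refine le_lineStab_of_isNilpotent (h.nil i hi) hxi hxk he0 fun w hw => hline w fun t ht => ?_
    rw [hx] at hw
    exact regN_fix_col 1 hw t (fun h0 => ht (Fin.ext (by simpa using h0)))
  have hUj : U j ≤ lineStab e := by
    refine le_lineStab_of_isNilpotent (h.nil j hj) hyj hyl he0 fun w hw => hline w fun t ht => ?_
    rw [hy] at hw
    refine regN_fix_col _ hw t (fun h0 => ht ?_)
    have h1 : Equiv.swap a b t = 0 := Fin.ext h0
    have h2 : Equiv.swap a b 0 = 0 :=
      Equiv.swap_apply_of_ne_of_ne (by simp [ha, Fin.ext_iff]) (by simp [hb, Fin.ext_iff])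
    exact (Equiv.swap a b).injective (h1.trans h2.symm)
  have hij : i ≠ j := by
    rintro rfl
    obtain ⟨v, hv, hvP⟩ := exists_fixed_row (H84.isPGroup_pCoreOf p (U i))
    have h1 := hvP x (mem_pCoreOf_of_isNilpotent (h.nil i hi) hxi hxk)
    have h2 := hvP y (mem_pCoreOf_of_isNilpotent (h.nil i hi) hyj hyl)
    rw [hx] at h1
    rw [hy] at h2
    apply hv
    funext t
    by_cases ht : t = b
    · refine regN_fix_row _ h2 t ?_
      rw [ht, Equiv.swap_apply_right]
      simp [ha]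
    · refine regN_fix_row _ h1 t ?_
      intro h0
      exact ht (Fin.ext (by simp at h0; simp [hb]; omega))
  have hGe : ¬ G ≤ lineStab e := by
    intro hle
    have h1 := mulVec_eq_of_mem_lineStab hzr he0 (hle (hG hzS))
    rw [hz] at h1
    have := regN_fix_col _ h1 0 (by simp)
    simp [he] at this
  refine h.min j hj (fun t => if t = i then lineStab e else U t) ?_ ?_
  · intro t ht _
    by_cases hti : t = i
    · simp only [hti, if_true]
      exact ⟨center_le_lineStab e he0, hGe⟩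
    · simp only [hti, if_false]
      exact ⟨h.le t ht, h.proper t ht⟩
  · intro g hg
    obtain ⟨t, ht, hgt⟩ := h.cover g hg
    by_cases htj : t = j
    · subst htj
      exact ⟨i, hi, hij, by simp only [if_true]; exact hUj hgt⟩
    · refine ⟨t, ht, htj, ?_⟩
      by_cases hti : t = i
      · subst hti
        simp only [if_true]
        exact hUi hgt
      · simp only [hti, if_false]
        exact hgt

end Cfsg.Agent.H93
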