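import Mathlib
import Cfsg.Agent.H93.LinCover3

/-!
No nilpotent minimal cover for groups between `SL 2 F` and `GL 2 F`, `|F| ≥ 4`.
-/

set_option autoImplicit false

namespace Cfsg.Agent.H93

open Cfsg Subgroup Matrix
open scoped commutatorElement

variable {F : Type*} [Field F]

/-- nilpotent `2 × 2` matrix with kernel the line through `v`. -/
def tvN (v : Fin 2 → F) : Matrix (Fin 2) (Fin 2) F :=
  !![-(v 0 * v 1), v 0 ^ 2; -(v 1 ^ 2), v 0 * v 1]

theorem tvN_isNilpotent (v : Fin 2 → F) : IsNilpotent (tvN v) := by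
  refine ⟨2, ?_⟩
  rw [pow_two]
  ext i j
  fin_cases i <;> fin_cases j <;> simp [tvN, mul_apply, Fin.sum_univ_two] <;> ring

theorem tvN_fix {v : Fin 2 → F} (hv : v ≠ 0) (w : Fin 2 → F) (hw : (1 + tvN v) *ᵥ w = w) :
    ∃ c : F, w = c • v := by
  rw [add_mulVec, one_mulVec, add_eq_left] at hw
  have h0 := congrFun hw 0
  have h1 := congrFun hw 1
  simp [tvN, mulVec, dotProduct, Fin.sum_univ_two] at h0 h1
  by_cases ha : v 0 = 0
  · have hb : v 1 ≠ 0 := by
      intro hb
      apply hv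
      funext i
      fin_cases i <;> simp [ha, hb]
    refine ⟨w 1 / v 1, funext fun i => ?_⟩
    rw [ha] at h1
    have : w 0 = 0 := by simpa [hb] using h1
    fin_cases i
    · simp [ha, this]
    · simp [hb]
  · refine ⟨w 0 / v 0, funext fun i => ?_⟩
    fin_cases i
    · simp [ha]
    · simp only [Fin.mk_one, Fin.isValue, Pi.smul_apply, smul_eq_mul]
      field_simp
      have : v 0 * (v 0 * w 1 - w 0 * v 1) = 0 := by linear_combination h0
      have := (mul_eq_zero.mp this).resolve_left ha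
      linear_combination this

/-- `g` has an eigenvector. -/
def HasEig (g : GL (Fin 2) F) : Prop := ∃ v : Fin 2 → F, v ≠ 0 ∧ g ∈ lineStab v

theorem mem_center_iff_two {g : GL (Fin 2) F} :
    g ∈ center (GL (Fin 2) F) ↔ ∃ c : F, (g : Matrix (Fin 2) (Fin 2) F) = c • 1 := by
  rw [GeneralLinearGroup.mem_center_iff_val_mem_range_scalar]
  constructor
  · rintro ⟨c, hc⟩
    exact ⟨c, by rw [← hc]; ext i j; simp [diagonal_apply, one_apply]⟩
  · rintro ⟨c, hc⟩
    exact ⟨c, by rw [hc]; ext i j; simp [diagonal_apply, one_apply]⟩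

theorem smul_of_commutator_mem_center {g z : GL (Fin 2) F} (h : ⁅g, z⁆ ∈ center (GL (Fin 2) F)) :
    ∃ c : F, (g : Matrix (Fin 2) (Fin 2) F) * z = c • ((z : Matrix (Fin 2) (Fin 2) F) * g) := by
  obtain ⟨c, hc⟩ := mem_center_iff_two.mp h
  refine ⟨c, ?_⟩
  have : g * z = ⁅g, z⁆ * (z * g) := by rw [commutatorElement_def]; group
  rw [← Units.val_mul, this, Units.val_mul, hc, smul_mul_assoc, one_mul, Units.val_mul]

theorem det_ne_zero_two (g : GL (Fin 2) F) :
    (g : Matrix (Fin 2) (Fin 2) F) 0 0 * g 1 1 - g 0 1 * g 1 0 ≠ 0 := by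
  rw [← det_fin_two]
  exact g.det_ne_zero

theorem hasEig_or_trace {z a : GL (Fin 2) F} (hz : z ∉ center (GL (Fin 2) F)) (hze : HasEig z)
    (h : ⁅a, z⁆ ∈ center (GL (Fin 2) F)) :
    HasEig a ∨ ((a : Matrix (Fin 2) (Fin 2) F).trace = 0 ∧ (2 : F) ≠ 0) := by
  obtain ⟨c, hc⟩ := smul_of_commutator_mem_center h
  by_cases hc1 : c = 1
  · left
    rw [hc1, one_smul] at hc
    obtain ⟨v, hv, α, -, hα⟩ := hze
    by_contra hne
    apply hz
    rw [mem_center_iff_two]
    refine ⟨α, ?_⟩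
    set w := (a : Matrix (Fin 2) (Fin 2) F) *ᵥ v with hw
    have hzw : (z : Matrix (Fin 2) (Fin 2) F) *ᵥ w = α • w := by
      rw [hw, mulVec_mulVec, ← hc, ← mulVec_mulVec, hα, mulVec_smul]
    have hdet : v 0 * w 1 - v 1 * w 0 ≠ 0 := by
      intro h0
      apply hne
      obtain ⟨d, hd⟩ := tvN_fix hv w (by
        rw [add_mulVec, one_mulVec, add_eq_left]
        funext i
        fin_cases i
        · simp [tvN, mulVec, dotProduct, Fin.sum_univ_two, -mul_eq_zero]
          linear_combination (v 0) * h0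
        · simp [tvN, mulVec, dotProduct, Fin.sum_univ_two, -mul_eq_zero]
          linear_combination (v 1) * h0)
      exact ⟨v, hv, mem_lineStab hv hd⟩
    have e0 := congrFun hα 0
    have e1 := congrFun hα 1
    have f0 := congrFun hzw 0
    have f1 := congrFun hzw 1
    generalize w = w' at *
    simp only [mulVec, dotProduct, Fin.sum_univ_two, Pi.smul_apply, smul_eq_mul] at e0 e1 f0 f1
    ext i j
    fin_cases i <;> fin_cases j <;> simp <;> refine mul_left_cancel₀ hdet ?_
    · linear_combination (w' 1) * e0 - (v 1) * f0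
    · linear_combination (v 0) * f0 - (w' 0) * e0
    · linear_combination (w' 1) * e1 - (v 1) * f1
    · linear_combination (v 0) * f1 - (w' 0) * e1
  · right
    have h1 : (a : Matrix (Fin 2) (Fin 2) F) =
        c • ((z : Matrix (Fin 2) (Fin 2) F) * (a : Matrix (Fin 2) (Fin 2) F) *
          ((z⁻¹ : GL (Fin 2) F) : Matrix (Fin 2) (Fin 2) F)) := by
      rw [← smul_mul_assoc, ← hc, mul_assoc, ← Units.val_mul, mul_inv_cancel, Units.val_one, mul_one]
    constructor
    · have h2 := congrArg trace h1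
      rw [trace_smul, trace_mul_cycle, ← Units.val_mul, inv_mul_cancel, Units.val_one, one_mul,
        smul_eq_mul] at h2
      have : (1 - c) * (a : Matrix (Fin 2) (Fin 2) F).trace = 0 := by linear_combination h2
      exact (mul_eq_zero.mp this).resolve_left (sub_ne_zero.mpr (Ne.symm hc1))
    · have h2 := congrArg det hc
      rw [det_smul, det_mul, det_mul, Fintype.card_fin] at h2
      have h3 : (c - 1) * (c + 1) = 0 := by
        refine mul_right_cancel₀ (mul_ne_zero a.det_ne_zero z.det_ne_zero) ?_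
        linear_combination -h2
      have h4 := (mul_eq_zero.mp h3).resolve_left (sub_ne_zero.mpr hc1)
      intro h5
      apply hc1
      linear_combination h4 - h5

theorem pow_eq_of_sq {g u : Matrix (Fin 2) (Fin 2) F} {d s t : F} (hg : g * g = d • 1)
    (hu : u = s • 1 + t • g) (k : ℕ) : ∃ s' t' : F, u ^ k = s' • 1 + t' • g := by
  induction k with
  | zero => exact ⟨1, 0, by simp⟩
  | succ k ih =>
    obtain ⟨s', t', h⟩ := ih
    refine ⟨s' * s + t' * t * d, s' * t + t' * s, ?_⟩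
    rw [pow_succ, h, hu]
    simp only [add_mul, mul_add, smul_mul_assoc, mul_smul_comm, one_mul, mul_one, hg, smul_smul]
    module

theorem not_hasEig_of_eq {g w : GL (Fin 2) F} (hg : ¬ HasEig g) {s t : F} (ht : t ≠ 0)
    (hw : (w : Matrix (Fin 2) (Fin 2) F) = s • 1 + t • (g : Matrix (Fin 2) (Fin 2) F)) :
    ¬ HasEig w := by
  rintro ⟨v, hv, c, -, hc⟩
  refine hg ⟨v, hv, mem_lineStab hv (c := t⁻¹ * (c - s)) ?_⟩
  rw [hw, add_mulVec, smul_mulVec, smul_mulVec, one_mulVec] at hc
  have : t • ((g : Matrix (Fin 2) (Fin 2) F) *ᵥ v) = (c - s) • v := by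
    rw [sub_smul, ← hc]; abel
  rw [mul_smul, ← this, smul_smul, inv_mul_cancel₀ ht, one_smul]

theorem hasEig_of_mem_center {g : GL (Fin 2) F} (hg : g ∈ center (GL (Fin 2) F)) : HasEig g :=
  ⟨1, one_ne_zero, center_le_lineStab _ one_ne_zero hg⟩

theorem hasEig_of_sq {g : GL (Fin 2) F} (h0 : (g : Matrix (Fin 2) (Fin 2) F).trace = 0) {a : F}
    (ha : a ^ 2 + (g : Matrix (Fin 2) (Fin 2) F).det = 0) : HasEig g := by
  rw [trace_fin_two] at h0
  rw [det_fin_two] at ha
  by_cases h1 : (g : Matrix (Fin 2) (Fin 2) F) 1 0 = 0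
  · have hv : (![1, 0] : Fin 2 → F) ≠ 0 := fun h => by simpa using congrFun h 0
    refine ⟨![1, 0], hv, mem_lineStab hv (c := g 0 0) ?_⟩
    funext i
    fin_cases i <;> simp [mulVec, dotProduct, Fin.sum_univ_two, h1]
  · have hv : (![a - g 1 1, g 1 0] : Fin 2 → F) ≠ 0 := fun h => h1 (by simpa using congrFun h 1)
    refine ⟨_, hv, mem_lineStab hv (c := a) ?_⟩
    funext i
    fin_cases i
    · simp [mulVec, dotProduct, Fin.sum_univ_two]
      linear_combination a * h0 - ha
    · simp [mulVec, dotProduct, Fin.sum_univ_two]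
      ring

theorem exists_three_ne [Fintype F] (hF : 4 ≤ Fintype.card F) (d : F) :
    ∃ a : F, a ≠ 0 ∧ a ^ 2 + d ≠ 0 := by
  classical
  by_cases h : ∃ b : F, b ^ 2 + d = 0
  · obtain ⟨b, hb⟩ := h
    have : ({0, b, -b} : Finset F).card < (Finset.univ : Finset F).card := by
      have := Finset.card_le_three (a := (0 : F)) (b := b) (c := -b)
      rw [Finset.card_univ]
      omega
    obtain ⟨a, -, ha⟩ := Finset.exists_mem_notMem_of_card_lt_card this
    simp only [Finset.mem_insert, Finset.mem_singleton, not_or] at ha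
    refine ⟨a, ha.1, fun h0 => ?_⟩
    have : (a - b) * (a + b) = 0 := by linear_combination h0 - hb
    rcases mul_eq_zero.mp this with h1 | h1
    · exact ha.2.1 (by linear_combination h1)
    · exact ha.2.2 (by linear_combination h1)
  · push Not at h
    exact ⟨1, one_ne_zero, h 1⟩

/-- A non-split involution of `PGL₂` is a power of a non-split element that is not an
involution. -/
theorem exists_root_nonsplit [Fintype F] (hF : 4 ≤ Fintype.card F) (h2 : (2 : F) ≠ 0)
    {G : Subgroup (GL (Fin 2) F)}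
    (hG : (SpecialLinearGroup.toGL : SpecialLinearGroup (Fin 2) F →* _).range ≤ G)
    {g : GL (Fin 2) F} (hgG : g ∈ G) (hg : ¬ HasEig g)
    (h0 : (g : Matrix (Fin 2) (Fin 2) F).trace = 0) :
    ∃ w ∈ G, ¬ HasEig w ∧ (w : Matrix (Fin 2) (Fin 2) F).trace ≠ 0 ∧
      ∀ A : Subgroup (GL (Fin 2) F), center _ ≤ A → w ∈ A → g ∈ A := by
  classical
  set M := (g : Matrix (Fin 2) (Fin 2) F) with hM
  set d : F := - M.det with hd
  have hd0 : d ≠ 0 := neg_ne_zero.mpr g.det_ne_zero
  have hgg : M * M = d • 1 := by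
    rw [trace_fin_two] at h0
    rw [hd, det_fin_two]
    ext i j
    fin_cases i <;> fin_cases j <;> simp [mul_apply, Fin.sum_univ_two]
    · linear_combination (M 0 0) * h0
    · linear_combination (M 0 1) * h0
    · linear_combination (M 1 0) * h0
    · linear_combination (M 1 1) * h0
  obtain ⟨a, ha0, had⟩ := exists_three_ne hF d
  have hD : a ^ 2 - d ≠ 0 := fun h => hg (hasEig_of_sq h0 (a := a) (by rw [← h, hd]; ring))
  set s : F := (a ^ 2 + d) / (a ^ 2 - d) with hs
  set t : F := 2 * a / (a ^ 2 - d) with ht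
  have hs0 : s ≠ 0 := div_ne_zero had hD
  have ht0 : t ≠ 0 := div_ne_zero (mul_ne_zero h2 ha0) hD
  have hst : s ^ 2 - t ^ 2 * d = 1 := by
    rw [hs, ht]; field_simp; ring
  have hdet : (s • (1 : Matrix (Fin 2) (Fin 2) F) + t • M).det = 1 := by
    rw [trace_fin_two] at h0
    rw [hd, det_fin_two] at hst
    rw [det_fin_two]
    simp
    linear_combination hst + s * t * h0
  set u : GL (Fin 2) F := SpecialLinearGroup.toGL ⟨_, hdet⟩ with hu
  have huG : u ∈ G := hG ⟨_, rfl⟩
  have hum : (u : Matrix (Fin 2) (Fin 2) F) = s • 1 + t • M := rfl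
  have htr : ∀ s' t' : F, (s' • (1 : Matrix (Fin 2) (Fin 2) F) + t' • M).trace = s' * 2 := by
    intro s' t'
    rw [trace_add, trace_smul, trace_smul, h0, trace_one]
    simp
  have hune : ¬ HasEig u := not_hasEig_of_eq hg ht0 hum
  set π := QuotientGroup.mk' (center (GL (Fin 2) F)) with hπ
  have hker : ∀ x, π x = 1 ↔ x ∈ center (GL (Fin 2) F) := fun x => QuotientGroup.eq_one_iff x
  have hg2 : π g ^ 2 = 1 := by
    rw [← map_pow, hker, mem_center_iff_two]
    exact ⟨d, by rw [pow_two, Units.val_mul]; exact hgg⟩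
  have hcomm : Commute g u := by
    refine Units.ext ?_
    rw [Units.val_mul, Units.val_mul, hum, ← hM]
    simp only [add_mul, mul_add, smul_mul_assoc, mul_smul_comm, one_mul, mul_one]
  have hfin : ∀ (w : GL (Fin 2) F) (k : ℕ), π w ^ k = π g →
      ∀ A : Subgroup (GL (Fin 2) F), center _ ≤ A → w ∈ A → g ∈ A := by
    intro w k hk A hZA hwA
    have : (w ^ k)⁻¹ * g ∈ center (GL (Fin 2) F) := by
      rw [← hker, map_mul, map_inv, map_pow, hk, inv_mul_cancel]
    simpa using A.mul_mem (A.pow_mem hwA k) (hZA this)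
  rcases Nat.even_or_odd' (orderOf (π u)) with ⟨k, hk | hk⟩
  · refine ⟨u, huG, hune, by rw [hum, htr]; exact mul_ne_zero hs0 h2, hfin u k ?_⟩
    obtain ⟨s', t', hst'⟩ := pow_eq_of_sq hgg hum k
    have hpos : 0 < orderOf (π u) := orderOf_pos _
    have hk1 : u ^ k ∉ center (GL (Fin 2) F) := by
      rw [← hker, map_pow]
      exact pow_ne_one_of_lt_orderOf (by omega) (by omega)
    have ht' : t' ≠ 0 := by
      rintro rfl
      exact hk1 (mem_center_iff_two.mpr ⟨s', by rw [Units.val_pow_eq_pow_val, hst']; simp⟩)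
    have hk2 : u ^ k * u ^ k ∈ center (GL (Fin 2) F) := by
      rw [← hker, ← pow_add, ← two_mul, ← hk, map_pow, pow_orderOf_eq_one]
    have hs' : s' = 0 := by
      by_contra hs'
      refine not_hasEig_of_eq hg (s := s' * s' + t' * t' * d) (t := 2 * s' * t')
        (mul_ne_zero (mul_ne_zero h2 hs') ht') ?_ (hasEig_of_mem_center hk2)
      rw [Units.val_mul, Units.val_pow_eq_pow_val, hst', ← hM]
      simp only [add_mul, mul_add, smul_mul_assoc, mul_smul_comm, one_mul, mul_one, hgg, smul_smul]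
      module
    rw [← map_pow, hπ, QuotientGroup.mk'_apply, QuotientGroup.mk'_apply, eq_comm,
      QuotientGroup.eq, mem_center_iff_two]
    refine ⟨t', ?_⟩
    rw [Units.val_mul, Units.val_pow_eq_pow_val, hst', hs', zero_smul, zero_add, mul_smul_comm, hM,
      ← Units.val_mul, inv_mul_cancel, Units.val_one]
  · have hgu : ((g * u : GL (Fin 2) F) : Matrix (Fin 2) (Fin 2) F) = (t * d) • 1 + s • M := by
      rw [Units.val_mul, hum, ← hM]
      simp only [mul_add, mul_smul_comm, mul_one, hgg, smul_smul]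
      abel
    refine ⟨g * u, G.mul_mem hgG huG, not_hasEig_of_eq hg hs0 hgu,
      by rw [hgu, htr]; exact mul_ne_zero (mul_ne_zero ht0 hd0) h2, hfin _ (2 * k + 1) ?_⟩
    rw [map_mul, (hcomm.map π).mul_pow, ← hk, pow_orderOf_eq_one, mul_one, hk, pow_succ, pow_mul,
      hg2, one_pow, one_mul]

theorem exists_gl_of_det {G : Subgroup (GL (Fin 2) F)}
    (hG : (SpecialLinearGroup.toGL : SpecialLinearGroup (Fin 2) F →* _).range ≤ G)
    {z : GL (Fin 2) F} (hz : z ∈ G) (M : Matrix (Fin 2) (Fin 2) F)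
    (hM : M.det = (z : Matrix (Fin 2) (Fin 2) F).det) :
    ∃ h ∈ G, (h : Matrix (Fin 2) (Fin 2) F) = M := by
  have h1 : (M * ((z⁻¹ : GL (Fin 2) F) : Matrix (Fin 2) (Fin 2) F)).det = 1 := by
    rw [det_mul, hM, ← det_mul, ← Units.val_mul, mul_inv_cancel, Units.val_one, det_one]
  refine ⟨SpecialLinearGroup.toGL ⟨_, h1⟩ * z, G.mul_mem (hG ⟨_, rfl⟩) hz, ?_⟩
  rw [Units.val_mul]
  change M * ((z⁻¹ : GL (Fin 2) F) : Matrix (Fin 2) (Fin 2) F) * z = M
  rw [mul_assoc, ← Units.val_mul, inv_mul_cancel, Units.val_one, mul_one]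

/-- choice of the diagonal element `h`. -/
theorem exists_good_diag [Fintype F] (hF : 4 ≤ Fintype.card F) {G : Subgroup (GL (Fin 2) F)}
    (hG : (SpecialLinearGroup.toGL : SpecialLinearGroup (Fin 2) F →* _).range ≤ G) :
    ∃ h ∈ G, ∃ α β : F, α ≠ β ∧ (h : Matrix (Fin 2) (Fin 2) F) = !![α, 0; 0, β] ∧
      ∀ z ∈ G, ⁅h, z⁆ ∈ center (GL (Fin 2) F) → HasEig z := by
  classical
  have e1 : (![1, 0] : Fin 2 → F) ≠ 0 := fun h => by simpa using congrFun h 0
  have key : ∀ (h z : GL (Fin 2) F) (α β : F), α ≠ β →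
      (h : Matrix (Fin 2) (Fin 2) F) = !![α, 0; 0, β] → ⁅h, z⁆ ∈ center (GL (Fin 2) F) →
      HasEig z ∨ (α + β = 0 ∧ (z : Matrix (Fin 2) (Fin 2) F).trace = 0) := by
    intro h z α β hne hh hc
    obtain ⟨c, hc⟩ := smul_of_commutator_mem_center hc
    have hd := det_ne_zero_two h
    have hz := det_ne_zero_two z
    rw [hh] at hc hd
    have c00 := congrFun (congrFun hc 0) 0
    have c01 := congrFun (congrFun hc 0) 1
    have c10 := congrFun (congrFun hc 1) 0
    have c11 := congrFun (congrFun hc 1) 1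
    simp [mul_apply, Fin.sum_univ_two, vecMul, dotProduct, -mul_eq_zero] at c00 c01 c10 c11 hd
    have hα : α ≠ 0 := left_ne_zero_of_mul hd
    have hβ : β ≠ 0 := right_ne_zero_of_mul hd
    by_cases h10 : (z : Matrix (Fin 2) (Fin 2) F) 1 0 = 0
    · left
      refine ⟨![1, 0], e1, mem_lineStab e1 (c := z 0 0) ?_⟩
      funext i
      fin_cases i <;> simp [mulVec, dotProduct, Fin.sum_univ_two, h10]
    · right
      have hc1 : β = c * α := mul_right_cancel₀ h10 (by linear_combination c10)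
      have hcne : c - 1 ≠ 0 := by
        intro h
        apply hne
        linear_combination -hc1 - α * h
      have z00 : (z : Matrix (Fin 2) (Fin 2) F) 0 0 = 0 :=
        mul_left_cancel₀ (mul_ne_zero hcne hα) (by linear_combination -c00)
      have z11 : (z : Matrix (Fin 2) (Fin 2) F) 1 1 = 0 :=
        mul_left_cancel₀ (mul_ne_zero hcne hβ) (by linear_combination -c11)
      have z01 : (z : Matrix (Fin 2) (Fin 2) F) 0 1 ≠ 0 := by
        intro h0
        apply hz
        rw [z00, h0]; ring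
      have hc2 : α = c * β := mul_right_cancel₀ z01 (by linear_combination c01)
      refine ⟨?_, by rw [trace_fin_two, z00, z11, add_zero]⟩
      have : (α - β) * (α + β) = 0 := by linear_combination α * hc2 - β * hc1
      exact (mul_eq_zero.mp this).resolve_left (sub_ne_zero.mpr hne)
  by_cases hex : ∃ h ∈ G, ∃ α β : F, α ≠ β ∧ α + β ≠ 0 ∧
      (h : Matrix (Fin 2) (Fin 2) F) = !![α, 0; 0, β]
  · obtain ⟨h, hhG, α, β, hne, hsum, hh⟩ := hex
    exact ⟨h, hhG, α, β, hne, hh, fun z _ hz =>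
      (key h z α β hne hh hz).resolve_right (fun h' => hsum h'.1)⟩
  · obtain ⟨a, ha0, ha1⟩ := exists_three_ne hF (-1)
    have hne : a ≠ a⁻¹ := by
      intro h
      apply ha1
      rw [pow_two]
      nth_rewrite 2 [h]
      rw [mul_inv_cancel₀ ha0, add_neg_cancel]
    obtain ⟨h, hhG, hh⟩ := exists_gl_of_det hG G.one_mem !![a, 0; 0, a⁻¹]
      (by simp [det_fin_two, ha0])
    have hsum : a + a⁻¹ = 0 := by
      by_contra hs
      exact hex ⟨h, hhG, a, a⁻¹, hne, hs, hh⟩
    have ha2 : a ^ 2 + 1 = 0 := by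
      have := congrArg (a * ·) hsum
      simp only [mul_add, mul_inv_cancel₀ ha0, mul_zero] at this
      linear_combination this
    refine ⟨h, hhG, a, a⁻¹, hne, hh, fun z hzG hz => ?_⟩
    rcases key h z a a⁻¹ hne hh hz with h1 | ⟨-, h1⟩
    · exact h1
    · obtain ⟨h', hh'G, hh'⟩ := exists_gl_of_det hG hzG
        !![(z : Matrix (Fin 2) (Fin 2) F).det, 0; 0, 1] (by simp [det_fin_two])
      by_cases hd1 : (z : Matrix (Fin 2) (Fin 2) F).det = 1
      · exact hasEig_of_sq h1 (a := a) (by rw [hd1, ha2])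
      · by_cases hd2 : (z : Matrix (Fin 2) (Fin 2) F).det + 1 = 0
        · exact hasEig_of_sq h1 (a := 1) (by linear_combination hd2)
        · exact absurd ⟨h', hh'G, _, _, hd1, hd2, hh'⟩ hex

theorem not_nilCover_two [Fintype F] (hF : 4 ≤ Fintype.card F) {G : Subgroup (GL (Fin 2) F)}
    (hG : (SpecialLinearGroup.toGL : SpecialLinearGroup (Fin 2) F →* _).range ≤ G)
    {κ : Type*} {I : Set κ} {U : κ → Subgroup (GL (Fin 2) F)}
    (hU : NilCover (center _) G I U) : False := by
  classical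
  obtain ⟨p, hchar⟩ := CharP.exists F
  haveI : Fact p.Prime := ⟨CharP.char_is_prime F p⟩
  have hx := fun v : Fin 2 → F => exists_unipotent p (tvN_isNilpotent v)
  choose x hx hxk hxS using hx
  have hle : ∀ i ∈ I, ∀ v : Fin 2 → F, v ≠ 0 → x v ∈ U i → U i ≤ lineStab v := by
    intro i hi v hv hxv
    obtain ⟨k, hk⟩ := hxk v
    exact le_lineStab_of_isNilpotent (hU.nil i hi) hxv hk hv
      (fun w hw => tvN_fix hv w (by rwa [hx] at hw))
  have hGv : ∀ v : Fin 2 → F, v ≠ 0 → ¬ G ≤ lineStab v := by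
    intro v hv hGv
    have e1 : (![1, 0] : Fin 2 → F) ≠ 0 := fun h => by simpa using congrFun h 0
    have e2 : (![0, 1] : Fin 2 → F) ≠ 0 := fun h => by simpa using congrFun h 1
    obtain ⟨k, hk⟩ := hxk ![1, 0]
    obtain ⟨l, hl⟩ := hxk ![0, 1]
    obtain ⟨c, hc⟩ := tvN_fix e1 v (by
      rw [← hx]; exact mulVec_eq_of_mem_lineStab hk hv (hGv (hG (hxS _))))
    obtain ⟨d, hd⟩ := tvN_fix e2 v (by
      rw [← hx]; exact mulVec_eq_of_mem_lineStab hl hv (hGv (hG (hxS _))))
    apply hv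
    funext i
    fin_cases i
    · rw [hd]; simp
    · rw [hc]; simp
  obtain ⟨h, hhG, α, β, hne, hh, hgood⟩ := exists_good_diag hF hG
  obtain ⟨i₀, hi₀, hhi⟩ := hU.cover h hhG
  have hhZ : h ∉ center (GL (Fin 2) F) := by
    rw [mem_center_iff_two]
    rintro ⟨c, hc⟩
    rw [hh] at hc
    have c00 := congrFun (congrFun hc 0) 0
    have c11 := congrFun (congrFun hc 1) 1
    simp at c00 c11
    exact hne (c00.trans c11.symm)
  haveI := hU.nil i₀ hi₀
  obtain ⟨z, -, hzZ, hz⟩ := H3.exists_central_mod (G := U i₀)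
    (N := (center (GL (Fin 2) F)).subgroupOf (U i₀)) (C := ⊤)
    (fun hle => hhZ (hle (mem_top ⟨h, hhi⟩)))
  have hz' : ∀ a ∈ U i₀, ⁅a, (z : GL (Fin 2) F)⁆ ∈ center (GL (Fin 2) F) :=
    fun a ha => hz ⟨a, ha⟩
  have hze : HasEig (z : GL (Fin 2) F) := hgood z (hU.le' i₀ hi₀ z.2) (hz' h hhi)
  have hA : ∀ a ∈ U i₀, HasEig a ∨ ((a : Matrix (Fin 2) (Fin 2) F).trace = 0 ∧ (2 : F) ≠ 0) :=
    fun a ha => hasEig_or_trace hzZ hze (hz' a ha)
  have hno : ∀ v : Fin 2 → F, v ≠ 0 → x v ∉ U i₀ := by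
    intro v hv hxv
    obtain ⟨k, hk⟩ := hxk v
    have hd := det_ne_zero_two h
    rw [hh] at hd
    simp [-mul_eq_zero] at hd
    have hq : h ^ (Fintype.card F - 1) = 1 := by
      refine Units.ext ?_
      have : (h : Matrix (Fin 2) (Fin 2) F) = diagonal ![α, β] := by
        rw [hh]; ext i j; fin_cases i <;> fin_cases j <;> simp
      rw [Units.val_pow_eq_pow_val, this, diagonal_pow, Units.val_one, ← diagonal_one]
      congr 1
      funext i
      fin_cases i
      · simpa using FiniteField.pow_card_sub_one_eq_one α (left_ne_zero_of_mul hd)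
      · simpa using FiniteField.pow_card_sub_one_eq_one β (right_ne_zero_of_mul hd)
    have hcop : (orderOf h).Coprime (orderOf (x v)) := by
      refine Nat.Coprime.coprime_dvd_left (orderOf_dvd_of_pow_eq_one hq)
        (Nat.Coprime.coprime_dvd_right (orderOf_dvd_of_pow_eq_one hk) (Nat.Coprime.pow_right _ ?_))
      obtain ⟨n, -, hn⟩ := FiniteField.card F p
      rw [hn]
      refine Nat.Coprime.coprime_dvd_right (dvd_pow_self p n.ne_zero) ?_
      have : 0 < p ^ (n : ℕ) := pow_pos (Fact.out : p.Prime).pos _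
      exact (Nat.coprime_self_sub_left this).mpr (Nat.coprime_one_left _)
    have hc := congrArg Units.val
      (H4.commute_of_isNilpotent_of_coprime (hU.nil i₀ hi₀) hhi hxv hcop).eq
    rw [Units.val_mul, Units.val_mul, hh, hx] at hc
    have c01 := congrFun (congrFun hc 0) 1
    have c10 := congrFun (congrFun hc 1) 0
    simp [mul_apply, Fin.sum_univ_two, vecMul, dotProduct, tvN, -mul_eq_zero] at c01 c10
    have hne' : α - β ≠ 0 := sub_ne_zero.mpr hne
    have v0 : v 0 ^ 2 = 0 := mul_left_cancel₀ hne' (by linear_combination c01)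
    have v1 : v 1 ^ 2 = 0 := mul_left_cancel₀ hne' (by linear_combination -c10)
    apply hv
    funext i
    fin_cases i
    · simpa using v0
    · simpa using v1
  let f : κ → Subgroup (GL (Fin 2) F) := fun i =>
    if hi : ∃ v : Fin 2 → F, v ≠ 0 ∧ x v ∈ U i then lineStab hi.choose else U i
  have hf : ∀ i ∈ I, U i ≤ f i := by
    intro i hi
    by_cases h' : ∃ v : Fin 2 → F, v ≠ 0 ∧ x v ∈ U i
    · simp only [f, dif_pos h']
      exact hle i hi _ h'.choose_spec.1 h'.choose_spec.2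
    · simp only [f, dif_neg h']
      exact le_rfl
  have hfe : ∀ g : GL (Fin 2) F, HasEig g → ∃ i ∈ I, i ≠ i₀ ∧ g ∈ f i := by
    rintro g ⟨v, hv, hgv⟩
    obtain ⟨i, hi, hxi⟩ := hU.cover (x v) (hG (hxS v))
    refine ⟨i, hi, fun h' => hno v hv (h' ▸ hxi), ?_⟩
    have h' : ∃ v : Fin 2 → F, v ≠ 0 ∧ x v ∈ U i := ⟨v, hv, hxi⟩
    simp only [f, dif_pos h']
    obtain ⟨k, hk⟩ := hxk v
    obtain ⟨c, hc⟩ := tvN_fix hv h'.choose (by
      rw [← hx]
      exact mulVec_eq_of_mem_lineStab hk h'.choose_spec.1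
        (hle i hi _ h'.choose_spec.1 h'.choose_spec.2 hxi))
    rw [hc]
    exact lineStab_smul_le v c hgv
  refine hU.min i₀ hi₀ f (fun i hi _ => ⟨(hU.le i hi).trans (hf i hi), ?_⟩) ?_
  · by_cases h' : ∃ v : Fin 2 → F, v ≠ 0 ∧ x v ∈ U i
    · simp only [f, dif_pos h']
      exact hGv _ h'.choose_spec.1
    · simp only [f, dif_neg h']
      exact hU.proper i hi
  · intro g hgG
    by_cases hge : HasEig g
    · exact hfe g hge
    obtain ⟨i, hi, hgi⟩ := hU.cover g hgG
    by_cases hii : i = i₀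
    · subst hii
      obtain ⟨h0, h2⟩ := (hA g hgi).resolve_left hge
      obtain ⟨w, hwG, hwe, hwt, hw⟩ := exists_root_nonsplit hF h2 hG hgG hge h0
      obtain ⟨j, hj, hwj⟩ := hU.cover w hwG
      refine ⟨j, hj, ?_, hf j hj (hw _ (hU.le j hj) hwj)⟩
      rintro rfl
      exact hwt ((hA w hwj).resolve_left hwe).1
    · exact ⟨i, hi, hii, hf i hi hgi⟩

end Cfsg.Agent.H93
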